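import Mathlib
import Cfsg.Agent.Lib.Coprime.Semidirect
import Cfsg.Agent.Lib.Coprime.Product
import Cfsg.Agent.Lib.PGrp.Basic

/-!
# Index bounds under coprime action of a non-cyclic abelian group, and Dietzmann's lemma
-/

set_option autoImplicit false

namespace Cfsg.Agent.Coprime

open Subgroup
open scoped commutatorElement Pointwise

section Dietzmann

variable {G : Type*} [Group G]

theorem dietz_pull [DecidableEq G] {S : Set G} (hS : ∀ s ∈ S, ∀ g : G, g * s * g⁻¹ ∈ S) (s : G) :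
    ∀ l : List G, (∀ x ∈ l, x ∈ S) → ∃ l' : List G, (∀ x ∈ l', x ∈ S) ∧
      l'.length + l.count s = l.length ∧ l.prod = s ^ l.count s * l'.prod
  | [], _ => ⟨[], by simp, by simp, by simp⟩
  | x :: l, h => by
    obtain ⟨l', h1, h2, h3⟩ := dietz_pull hS s l (fun y hy => h y (List.mem_cons_of_mem _ hy))
    by_cases hx : x = s
    · subst hx
      refine ⟨l', h1, ?_, ?_⟩
      · simp only [List.count_cons_self, List.length_cons]; omega
      · rw [List.prod_cons, h3, List.count_cons_self, pow_succ', mul_assoc]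
    · refine ⟨((s ^ l.count s)⁻¹ * x * (s ^ l.count s)⁻¹⁻¹) :: l', ?_, ?_, ?_⟩
      · intro y hy
        rcases List.mem_cons.mp hy with rfl | hy
        · exact hS x (h x List.mem_cons_self) _
        · exact h1 y hy
      · rw [List.count_cons_of_ne hx]; simp only [List.length_cons]; omega
      · rw [List.count_cons_of_ne hx, List.prod_cons, List.prod_cons, h3]; group

theorem dietz_short [DecidableEq G] {S : Finset G} {m : ℕ}
    (hS : ∀ s ∈ S, ∀ g : G, g * s * g⁻¹ ∈ S) (hm : ∀ s ∈ S, 0 < orderOf s ∧ orderOf s ≤ m) :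
    ∀ n : ℕ, ∀ l : List G, l.length = n → (∀ x ∈ l, x ∈ S) → ∃ l' : List G, (∀ x ∈ l', x ∈ S) ∧
      l'.length ≤ S.card * m ∧ l'.prod = l.prod := by
  intro n
  induction n using Nat.strong_induction_on with
  | _ n ih =>
  intro l hl h
  by_cases hc : ∃ s ∈ S, orderOf s ≤ l.count s
  · obtain ⟨s, hs, hle⟩ := hc
    obtain ⟨l', h1, h2, h3⟩ := dietz_pull (S := (S : Set G)) hS s l h
    have h0 := (hm s hs).1
    obtain ⟨l'', g1, g2, g3⟩ := ih ((List.replicate (l.count s - orderOf s) s ++ l').length)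
      (by simp only [List.length_append, List.length_replicate]; omega) _ rfl (by
        intro x hx
        rcases List.mem_append.mp hx with hx | hx
        · rw [List.eq_of_mem_replicate hx]; exact hs
        · exact h1 x hx)
    refine ⟨l'', g1, g2, ?_⟩
    rw [g3, h3, List.prod_append, List.prod_replicate]
    congr 1
    conv_rhs => rw [← Nat.sub_add_cancel hle, pow_add, pow_orderOf_eq_one, mul_one]
  · push Not at hc
    refine ⟨l, h, ?_, rfl⟩
    rw [← List.sum_toFinset_count_eq_length]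
    calc ∑ a ∈ l.toFinset, l.count a ≤ ∑ a ∈ S, l.count a :=
          Finset.sum_le_sum_of_subset fun a ha => h a (List.mem_toFinset.mp ha)
      _ ≤ S.card • m := Finset.sum_le_card_nsmul _ _ _ fun a ha => (hc a ha).le.trans (hm a ha).2
      _ = S.card * m := smul_eq_mul _ _

theorem list_prod_mem_pow [DecidableEq G] {S : Finset G} (h1 : (1 : G) ∈ S) :
    ∀ (n : ℕ) (l : List G), (∀ x ∈ l, x ∈ S) → l.length ≤ n → l.prod ∈ S ^ n
  | 0, l, _, hl => by
    rw [List.length_eq_zero_iff.mp (Nat.le_zero.mp hl)]; simp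
  | n + 1, [], _, _ => by
    rw [pow_succ', List.prod_nil, ← mul_one (1 : G)]
    exact Finset.mul_mem_mul h1 (by simpa using list_prod_mem_pow h1 n [] (by simp) (by simp))
  | n + 1, x :: l, h, hl => by
    rw [pow_succ', List.prod_cons]
    exact Finset.mul_mem_mul (h x List.mem_cons_self) (list_prod_mem_pow h1 n l
      (fun y hy => h y (List.mem_cons_of_mem _ hy)) (by simpa using hl))

/-- Quantitative Dietzmann lemma. -/
theorem card_closure_le_of_conj_invariant [Finite G] {S : Set G} {k m : ℕ}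
    (hS : ∀ s ∈ S, ∀ g : G, g * s * g⁻¹ ∈ S) (hi : ∀ s ∈ S, s⁻¹ ∈ S)
    (hm : ∀ s ∈ S, orderOf s ≤ m) (hk : S.ncard ≤ k) :
    Nat.card (closure S) ≤ (k + 1) ^ (k * m) := by
  classical
  set T := (Set.toFinite S).toFinset with hT
  have hTS : ∀ x, x ∈ T ↔ x ∈ S := fun x => Set.Finite.mem_toFinset _
  have hTc : T.card ≤ k := by rwa [Set.ncard_eq_toFinset_card] at hk
  have key : ∀ g ∈ closure S, g ∈ (insert 1 T) ^ (k * m) := by
    intro g hg
    have hg' : g ∈ Submonoid.closure (S ∪ S⁻¹) := by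
      rw [← closure_toSubmonoid]; exact hg
    obtain ⟨l, hl, rfl⟩ := Submonoid.exists_list_of_mem_closure hg'
    obtain ⟨l', h1, h2, h3⟩ := dietz_short (S := T) (m := m)
      (fun s hs g => (hTS _).mpr (hS s ((hTS s).mp hs) g))
      (fun s hs => ⟨orderOf_pos s, hm s ((hTS s).mp hs)⟩) _ l rfl (by
        intro x hx
        rcases hl x hx with h | h
        · exact (hTS x).mpr h
        · have := hi _ (Set.mem_inv.mp h)
          rw [inv_inv] at this
          exact (hTS x).mpr this)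
    rw [← h3]
    exact list_prod_mem_pow (Finset.mem_insert_self _ _) _ l'
      (fun x hx => Finset.mem_insert_of_mem (h1 x hx)) (h2.trans (Nat.mul_le_mul_right _ hTc))
  calc Nat.card (closure S) = ((closure S : Subgroup G) : Set G).ncard := rfl
    _ ≤ (((insert 1 T) ^ (k * m) : Finset G) : Set G).ncard :=
        Set.ncard_le_ncard (fun g hg => key g hg) (Set.toFinite _)
    _ = ((insert 1 T) ^ (k * m)).card := Set.ncard_coe_finset _
    _ ≤ (insert 1 T).card ^ (k * m) := Finset.card_pow_le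
    _ ≤ (k + 1) ^ (k * m) := Nat.pow_le_pow_left ((Finset.card_insert_le _ _).trans (by omega)) _

/-- The number of `F`-conjugates of `x` is the index of `C_F(x)` in `F`. -/
theorem relIndex_centralizer_eq_ncard (F : Subgroup G) (x : G) :
    (centralizer {x}).relIndex F = {y | ∃ g ∈ F, y = g * x * g⁻¹}.ncard := by
  let _ : MulAction F G := MulAction.compHom G ((MulAut.conj (G := G)).comp F.subtype)
  have h := MulAction.index_stabilizer F x
  have e1 : MulAction.stabilizer F x = (centralizer {x}).subgroupOf F := by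
    ext g
    rw [MulAction.mem_stabilizer_iff, mem_subgroupOf, mem_centralizer_singleton_iff]
    change (g : G) * x * (g : G)⁻¹ = x ↔ _
    rw [mul_inv_eq_iff_eq_mul]
  have e2 : MulAction.orbit F x = {y | ∃ g ∈ F, y = g * x * g⁻¹} := by
    ext y
    constructor
    · rintro ⟨g, rfl⟩
      exact ⟨g, g.2, rfl⟩
    · rintro ⟨g, hg, rfl⟩
      exact ⟨⟨g, hg⟩, rfl⟩
  rw [e1, e2] at h
  exact h

theorem relIndex_centralizer_le_card_commutator [Finite G] {F : Subgroup G} {x : G} (hx : x ∈ F) :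
    (centralizer {x}).relIndex F ≤ Nat.card (_root_.commutator F) := by
  rw [relIndex_centralizer_eq_ncard]
  have e : Nat.card (_root_.commutator F) = ((⁅F, F⁆ : Subgroup G) : Set G).ncard := by
    rw [← F.map_subtype_commutator]
    exact (card_map_of_injective F.subtype_injective).symm
  rw [e]
  refine Set.ncard_le_ncard_of_injOn (fun y => y * x⁻¹) ?_ ?_ (Set.toFinite _)
  · rintro y ⟨g, hg, rfl⟩
    exact commutator_mem_commutator hg hx
  · intro y _ z _ h
    exact mul_right_cancel h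

end Dietzmann

variable {A G : Type*} [Group A] [Group G] (φ : A →* MulAut G) [Finite A] [Finite G]

omit [Finite A] [Finite G] in
theorem invBy_fixedSub_zpowers {B : Subgroup A} (hB : IsMulCommutative B) {a : A} (ha : a ∈ B) :
    InvBy φ B (fixedSub φ (zpowers a)) := by
  intro b hb h hh
  rw [mem_fixedSub_zpowers] at hh ⊢
  have : a * b = b * a := congrArg Subtype.val (hB.is_comm.comm ⟨a, ha⟩ ⟨b, hb⟩)
  rw [← MulAut.mul_apply, ← map_mul, this, map_mul, MulAut.mul_apply, hh]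

omit [Finite A] [Finite G] in
theorem invBy_normalizer {B : Subgroup A} {Q : Subgroup G} (hQ : InvBy φ B Q) :
    InvBy φ B (normalizer (Q : Set G)) := by
  intro b hb n hn
  rw [mem_normalizer_iff] at hn ⊢
  intro h
  have e : ∀ y, y ∈ Q ↔ φ b y ∈ Q := fun y => ⟨hQ b hb y, fun hy => by
    have := hQ b⁻¹ (B.inv_mem hb) _ hy
    rwa [← MulAut.mul_apply, ← map_mul, inv_mul_cancel, map_one, MulAut.one_apply] at this⟩
  obtain ⟨y, rfl⟩ := (φ b).surjective h
  rw [← map_inv, ← map_mul, ← map_mul, ← e, ← e]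
  exact hn y

open Classical in
theorem relIndex_dvd_prod_of_isPGroup {p : ℕ} [Fact p.Prime] {B : Subgroup A}
    (hB : IsMulCommutative B) (hnc : ¬ IsCyclic B) {P : Subgroup G} (hP : IsPGroup p P)
    (hcop : (Nat.card B).Coprime (Nat.card P)) (T : Finset A) (hT : ∀ a ∈ B, a ≠ 1 → a ∈ T) :
    ∀ Q : Subgroup G, Q ≤ P → InvBy φ B Q → InvBy φ B P → Q.relIndex P ∣
      ∏ a ∈ T, (Q ⊓ fixedSub φ (zpowers a)).relIndex (P ⊓ fixedSub φ (zpowers a)) := by
  intro Q
  induction Q using WellFoundedGT.induction with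
  | _ Q ih =>
  intro hQP hQ hPi
  rcases hQP.eq_or_lt with rfl | hlt
  · simp
  -- a minimal invariant overgroup
  obtain ⟨M, hM, hmin⟩ := (wellFounded_lt (α := Subgroup G)).has_min
    {M | Q < M ∧ M ≤ P ∧ InvBy φ B M} ⟨P, hlt, le_rfl, hPi⟩
  obtain ⟨hQM, hMP, hMi⟩ := hM
  have hmin' : ∀ K, Q < K → K ≤ M → InvBy φ B K → K = M := fun K h1 h2 h3 => by
    by_contra hne
    exact hmin K ⟨h1, h2.trans hMP, h3⟩ (lt_of_le_of_ne h2 hne)
  have hn : M ≤ normalizer (Q : Set G) := by
    have := hmin' (M ⊓ normalizer (Q : Set G))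
      (PGrp.lt_inf_normalizer (hP.to_le hMP) hQM) inf_le_left
      (fun b hb h hh => ⟨hMi b hb h hh.1, invBy_normalizer φ hQ b hb h hh.2⟩)
    rw [← this]; exact inf_le_right
  have hex : ∃ a ∈ B, a ≠ 1 ∧ ¬ M ⊓ fixedSub φ (zpowers a) ≤ Q := by
    by_contra hcon
    push Not at hcon
    exact hQM.not_ge (act_le_of_forall_fixed_le φ hB hnc hMi
      (hcop.coprime_dvd_right (card_dvd_of_le hMP)) hcon)
  obtain ⟨a, haB, ha1, ha⟩ := hex
  set F := fixedSub φ (zpowers a) with hF
  have hFi : InvBy φ B F := invBy_fixedSub_zpowers φ hB haB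
  have hmem : ∀ x, x ∈ (M ⊓ F) ⊔ Q ↔ ∃ c ∈ M ⊓ F, ∃ y ∈ Q, x = c * y := by
    intro x
    rw [← SetLike.mem_coe, coe_mul_of_left_le_normalizer_right _ _ (inf_le_left.trans hn)]
    constructor
    · rintro ⟨c, hc, y, hy, rfl⟩
      exact ⟨c, hc, y, hy, rfl⟩
    · rintro ⟨c, hc, y, hy, rfl⟩
      exact ⟨c, hc, y, hy, rfl⟩
  have hsup : (M ⊓ F) ⊔ Q = M := by
    refine hmin' _ (lt_of_le_of_ne le_sup_right fun e => ha (e ▸ le_sup_left))
      (sup_le inf_le_left hQM.le) fun b hb x hx => ?_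
    obtain ⟨c, hc, y, hy, rfl⟩ := (hmem x).mp hx
    exact (hmem _).mpr ⟨φ b c, ⟨hMi b hb c hc.1, hFi b hb c hc.2⟩, φ b y, hQ b hb y hy,
      map_mul _ _ _⟩
  have e1 : Q.relIndex M = (Q ⊓ F).relIndex (M ⊓ F) := by
    have h1 : Q.relIndex M = Q.relIndex (M ⊓ F) :=
      relIndex_eq_of_forall_exists_mul inf_le_left fun x hx => (hmem x).mp (by rwa [hsup])
    rw [h1, ← inf_relIndex_right Q, ← inf_assoc, inf_eq_left.mpr hQM.le]
  rw [← relIndex_mul_relIndex Q M P hQM.le hMP]
  have e2 : ∏ a ∈ T, (Q ⊓ fixedSub φ (zpowers a)).relIndex (P ⊓ fixedSub φ (zpowers a)) =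
      (∏ a ∈ T, (Q ⊓ fixedSub φ (zpowers a)).relIndex (M ⊓ fixedSub φ (zpowers a))) *
      ∏ a ∈ T, (M ⊓ fixedSub φ (zpowers a)).relIndex (P ⊓ fixedSub φ (zpowers a)) := by
    rw [← Finset.prod_mul_distrib]
    exact Finset.prod_congr rfl fun b _ => (relIndex_mul_relIndex _ _ _
      (inf_le_inf_right _ hQM.le) (inf_le_inf_right _ hMP)).symm
  rw [e2]
  refine mul_dvd_mul ?_ (ih M hQM hMP hMi hPi)
  rw [e1]
  exact Finset.dvd_prod_of_mem (fun a => (Q ⊓ fixedSub φ (zpowers a)).relIndex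
    (M ⊓ fixedSub φ (zpowers a))) (hT a haB ha1)

omit [Finite A] in
theorem relIndex_sylow_dvd {p : ℕ} [hp : Fact p.Prime] {Q P H K : Subgroup G} (hQ : IsSylowIn p Q H)
    (hP : IsSylowIn p P K) (hQP : Q ≤ P) (hHK : H ≤ K) : Q.relIndex P ∣ H.relIndex K := by
  have e1 := relIndex_mul_relIndex Q P K hQP hP.1
  have e2 := relIndex_mul_relIndex Q H K hQ.1 hHK
  have h1 : Q.relIndex P ∣ Q.relIndex H * H.relIndex K := by rw [e2, ← e1]; exact dvd_mul_right _ _
  obtain ⟨n, hn⟩ := IsPGroup.iff_card.mp hP.2.1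
  have h2 : Q.relIndex P ∣ p ^ n := hn ▸ relIndex_dvd_card Q P
  refine Nat.Coprime.dvd_of_dvd_mul_left ?_ h1
  exact Nat.Coprime.coprime_dvd_left h2
    (Nat.Coprime.pow_left _ ((Nat.Prime.coprime_iff_not_dvd hp.out).mpr hQ.2.2))

open Classical in
/-- `[K : H]` divides the product of the `[C_K(a) : C_H(a)]`. -/
theorem relIndex_dvd_prod {B : Subgroup A} (hB : IsMulCommutative B) (hnc : ¬ IsCyclic B)
    {H K : Subgroup G} (hHK : H ≤ K) (hH : InvBy φ B H) (hK : InvBy φ B K)
    (hcop : (Nat.card B).Coprime (Nat.card K)) (T : Finset A) (hT : ∀ a, a ∈ T ↔ a ∈ B ∧ a ≠ 1) :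
    H.relIndex K ∣
      ∏ a ∈ T, (H ⊓ fixedSub φ (zpowers a)).relIndex (K ⊓ fixedSub φ (zpowers a)) := by
  rw [Nat.dvd_iff_prime_pow_dvd_dvd]
  intro p k hp hk
  have : Fact p.Prime := ⟨hp⟩
  have hs : Group.IsSolvable B := Group.isSolvable_of_comm fun a b => hB.is_comm.comm a b
  have hcopH : (Nat.card B).Coprime (Nat.card H) := hcop.coprime_dvd_right (card_dvd_of_le hHK)
  obtain ⟨Q, hQ, hQi⟩ := act_exists_invariant_sylow φ p hH hcopH (Or.inl hs)
  obtain ⟨P, hP, hPi, hQP⟩ := act_exists_invariant_sylow_ge φ hK hcop (Or.inl hs)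
    (hQ.1.trans hHK) hQ.2.1 hQi
  have h1 : p ^ k ∣ Q.relIndex P := by
    have e1 := relIndex_mul_relIndex Q P K hQP hP.1
    have e2 := relIndex_mul_relIndex Q H K hQ.1 hHK
    have : p ^ k ∣ Q.relIndex P * P.relIndex K := by rw [e1, ← e2]; exact hk.mul_left _
    exact (Nat.Coprime.pow_left _ ((Nat.Prime.coprime_iff_not_dvd hp).mpr hP.2.2)).dvd_of_dvd_mul_right
      this
  refine h1.trans ((relIndex_dvd_prod_of_isPGroup φ hB hnc hP.2.1
    (hcop.coprime_dvd_right (card_dvd_of_le hP.1)) T (fun a h1 h2 => (hT a).mpr ⟨h1, h2⟩) Q hQP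
    hQi hPi).trans (Finset.prod_dvd_prod_of_dvd _ _ fun a ha => ?_))
  have haB : zpowers a ≤ B := (zpowers_le).mpr ((hT a).mp ha).1
  have hz : Group.IsSolvable (zpowers a) := inferInstance
  have c1 : (Nat.card (zpowers a)).Coprime (Nat.card K) := hcop.coprime_dvd_left (card_dvd_of_le haB)
  have c2 : (Nat.card (zpowers a)).Coprime (Nat.card H) :=
    hcopH.coprime_dvd_left (card_dvd_of_le haB)
  exact relIndex_sylow_dvd
    (act_isSylowIn_inf_fixedSub φ (fun b hb => hH b (haB hb)) c2 (Or.inl hz) hQ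
      (fun b hb => hQi b (haB hb)))
    (act_isSylowIn_inf_fixedSub φ (fun b hb => hK b (haB hb)) c1 (Or.inl hz) hP
      (fun b hb => hPi b (haB hb)))
    (inf_le_inf_right _ hQP) (inf_le_inf_right _ hHK)

end Cfsg.Agent.Coprime
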