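import Mathlib
import Cfsg.Agent.Lib.Coprime.SylowCount

/-!
# Counting fixed points and elements in simple groups
-/

set_option autoImplicit false

namespace Cfsg.Agent.Coprime

open Subgroup MulAction

section Fix

variable {G : Type*} [Group G] {Ω : Type*} [Finite Ω] [MulAction G Ω] {p : ℕ}

theorem ncard_modEq_of_invariant [Fact p.Prime] {P : Subgroup G} (hP : IsPGroup p P) {S : Set Ω}
    (hS : ∀ a ∈ P, ∀ w ∈ S, a • w ∈ S) :
    S.ncard ≡ {w ∈ S | ∀ a ∈ P, a • w = w}.ncard [MOD p] := by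
  let T : SubMulAction P Ω := ⟨S, fun a w hw => hS a a.2 w hw⟩
  have h1 := hP.card_modEq_card_fixedPoints T
  have h2 : Nat.card (fixedPoints P T) = {w ∈ S | ∀ a ∈ P, a • w = w}.ncard :=
    Nat.card_congr ⟨fun x => ⟨x.1.1, x.1.2, fun a ha => congrArg Subtype.val (x.2 ⟨a, ha⟩)⟩,
      fun x => ⟨⟨x.1, x.2.1⟩, fun a => Subtype.ext (x.2.2 a a.2)⟩, fun _ => rfl, fun _ => rfl⟩
  rw [h2] at h1
  exact h1

theorem ncard_modEq_of_pow_eq_one (hp : p.Prime) {x : G} (hx : x ^ p = 1) {S : Set Ω}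
    (hS : ∀ w ∈ S, x • w ∈ S) : S.ncard ≡ (S ∩ fixedBy Ω x).ncard [MOD p] := by
  haveI := Fact.mk hp
  have hP : IsPGroup p (zpowers x) := by
    rintro ⟨_, k, rfl⟩
    refine ⟨1, Subtype.ext ?_⟩
    change (x ^ k) ^ p ^ 1 = 1
    rw [pow_one, ← zpow_natCast, ← zpow_mul, mul_comm, zpow_mul, zpow_natCast, hx, one_zpow]
  have hfin : IsOfFinOrder x := isOfFinOrder_iff_pow_eq_one.mpr ⟨p, hp.pos, hx⟩
  have h1 := ncard_modEq_of_invariant hP (S := S) (by
    intro a ha w hw
    obtain ⟨k, rfl⟩ := hfin.mem_powers_iff_mem_zpowers.mpr ha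
    induction k with
    | zero => simpa
    | succ k ih =>
      change x ^ (k + 1) • w ∈ S
      rw [pow_succ', mul_smul]
      exact hS _ (ih (pow_mem (mem_zpowers x) k)))
  convert h1 using 2
  ext w
  refine and_congr_right fun _ => ⟨?_, fun h => h x (mem_zpowers x)⟩
  rintro h _ ⟨k, rfl⟩
  exact fixedBy_subset_fixedBy_zpow Ω x k h

theorem ncard_fixedBy_modEq_card (hp : p.Prime) {x : G} (hx : x ^ p = 1) :
    (fixedBy Ω x).ncard ≡ Nat.card Ω [MOD p] := by
  have := ncard_modEq_of_pow_eq_one hp hx (S := (Set.univ : Set Ω)) fun _ _ => trivial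
  rw [Set.univ_inter, Set.ncard_univ] at this
  exact this.symm

omit [Finite Ω] in
theorem smul_mem_fixedBy_of_commute {x y : G} (h : Commute x y) {w : Ω} (hw : w ∈ fixedBy Ω x) :
    y • w ∈ fixedBy Ω x := by
  rw [mem_fixedBy] at hw ⊢
  rw [← mul_smul, h.eq, mul_smul, hw]

theorem ncard_fixedBy_modEq_four [IsSimpleGroup G] (hc : ¬ IsMulCommutative G) {t : G}
    (ht : t ^ 2 = 1) : (fixedBy Ω t).ncard ≡ Nat.card Ω [MOD 4] := by
  classical
  have := Fintype.ofFinite Ω
  have h1 : (Equiv.Perm.sign.comp (toPermHom G Ω)).ker = ⊤ := by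
    refine (IsSimpleGroup.eq_bot_or_eq_top_of_normal _ inferInstance).resolve_left
      fun e => hc ⟨⟨fun a b => ?_⟩⟩
    apply (MonoidHom.ker_eq_bot_iff _).mp e
    rw [map_mul, map_mul, mul_comm]
  have h2 : Equiv.Perm.sign (toPermHom G Ω t) = 1 :=
    (h1 ▸ mem_top t : t ∈ (Equiv.Perm.sign.comp (toPermHom G Ω)).ker)
  have h3 : toPermHom G Ω t ^ 2 = 1 := by rw [← map_pow, ht, map_one]
  have h4 : Fintype.card (Function.fixedPoints (toPermHom G Ω t)) = (fixedBy Ω t).ncard := by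
    rw [← Nat.card_eq_fintype_card]
    rfl
  rw [Equiv.Perm.sign_of_pow_two_eq_one h3, h4, ← Nat.card_eq_fintype_card] at h2
  have h5 := ncard_fixedBy_modEq_card (Ω := Ω) Nat.prime_two ht
  have h6 : (fixedBy Ω t).ncard ≤ Nat.card Ω := Set.ncard_le_card _
  have h7 : Even ((Nat.card Ω - (fixedBy Ω t).ncard) / 2) := by
    by_contra h
    rw [(Nat.not_even_iff_odd.mp h).neg_one_pow] at h2
    exact absurd h2 (by decide)
  rw [Nat.even_iff] at h7
  unfold Nat.ModEq at h5 ⊢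
  omega

omit [Finite Ω] in
theorem eq_one_of_forall_smul_eq [IsSimpleGroup G] (h : ∃ (g : G) (w : Ω), g • w ≠ w) {x : G}
    (hx : ∀ w : Ω, x • w = w) : x = 1 := by
  obtain ⟨g, w, h⟩ := h
  rcases IsSimpleGroup.eq_bot_or_eq_top_of_normal (toPermHom G Ω).ker inferInstance with e | e
  · exact mem_bot.mp (e ▸ (Equiv.ext hx : x ∈ (toPermHom G Ω).ker))
  · exact absurd (congrArg (fun σ : Equiv.Perm Ω => σ w)
      (e ▸ mem_top g : g ∈ (toPermHom G Ω).ker)) h

theorem ncard_fixedBy_lt [IsSimpleGroup G] (h : ∃ (g : G) (w : Ω), g • w ≠ w) {x : G}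
    (hx : x ≠ 1) : (fixedBy Ω x).ncard < Nat.card Ω := by
  refine Set.ncard_lt_card fun e => hx (eq_one_of_forall_smul_eq h fun w => ?_)
  exact (e ▸ Set.mem_univ w : w ∈ fixedBy Ω x)

omit [Finite Ω] in
theorem exists_smul_ne_of_one_lt [IsPretransitive G Ω] (h : 1 < Nat.card Ω) :
    ∃ (g : G) (w : Ω), g • w ≠ w := by
  have := Nat.finite_of_card_ne_zero (by omega : Nat.card Ω ≠ 0)
  obtain ⟨a, b, hab⟩ := (Finite.one_lt_card_iff_nontrivial.mp h).exists_pair_ne
  obtain ⟨g, rfl⟩ := exists_smul_eq G b a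
  exact ⟨g, b, hab⟩

/-- If `R` acts freely on `S` and `t` normalizes `R` with `C_R(t) = 1`, then `t` fixes at most one
point in each `R`-orbit. -/
theorem card_mul_ncard_fixedBy_le {R : Subgroup G} {t : G} (ht : t ∈ normalizer (R : Set G))
    (hC : R ⊓ centralizer {t} = ⊥) {S : Set Ω} (hS : ∀ a ∈ R, ∀ w ∈ S, a • w ∈ S)
    (hfree : ∀ a ∈ R, ∀ w ∈ S, a • w = w → a = 1) :
    Nat.card R * (S ∩ fixedBy Ω t).ncard ≤ S.ncard := by
  rw [← Nat.card_coe_set_eq, ← Nat.card_prod, ← Nat.card_coe_set_eq]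
  refine Nat.card_le_card_of_injective
    (fun x => (⟨(x.1 : G) • (x.2 : Ω), hS _ x.1.2 _ x.2.2.1⟩ : S)) ?_
  rintro ⟨⟨a, ha⟩, w, hw, hw'⟩ ⟨⟨b, hb⟩, v, hv, hv'⟩ e
  replace e : a • w = b • v := congrArg Subtype.val e
  rw [mem_fixedBy] at hw' hv'
  have e1 : (b⁻¹ * a) • w = v := by rw [mul_smul, e, inv_smul_smul]
  have hc := R.mul_mem (R.inv_mem hb) ha
  have e2 : ((b⁻¹ * a)⁻¹ * (t * (b⁻¹ * a) * t⁻¹)) • w = w := by
    rw [mul_smul, inv_smul_eq_iff, mul_smul, inv_smul_eq_iff.mpr hw'.symm, mul_smul, e1, hv']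
  have e3 := hfree _ (R.mul_mem (R.inv_mem hc) ((mem_normalizer_iff.mp ht _).mp hc)) w hw e2
  have e4 : b⁻¹ * a = 1 := mem_bot.mp (hC ▸ mem_inf.mpr ⟨hc, mem_centralizer_singleton_iff.mpr
    (by rw [inv_mul_eq_one] at e3; exact mul_inv_eq_iff_eq_mul.mp e3.symm |>.symm)⟩)
  rw [e4, one_smul] at e1
  obtain rfl := inv_mul_eq_one.mp e4
  subst e1
  rfl

end Fix

variable {G : Type*} [Group G] [Finite G] {p : ℕ} [hp : Fact p.Prime]

theorem sylow_eq_of_forall_smul_eq {P Q : Sylow p G} (h : ∀ a ∈ (P : Subgroup G), a • Q = Q) :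
    Q = P :=
  Sylow.ext (P.is_maximal' Q.isPGroup' (P.isPGroup'.sylow_mem_fixedPoints_iff.mp
    fun a => h a a.2))

theorem mem_sylow_of_smul_eq {U : Subgroup G} (hU : IsPGroup p U) {Q : Sylow p G} {a : G}
    (ha : a ∈ U) (h : a • Q = Q) : a ∈ (Q : Subgroup G) := by
  have := hU.inf_normalizer_sylow Q
  exact (this ▸ mem_inf.mpr ⟨ha, Sylow.smul_eq_iff_mem_normalizer.mp h⟩ : a ∈ U ⊓ Q).2

theorem smul_sylow_eq_of_mem {Q : Sylow p G} {a : G} (ha : a ∈ (Q : Subgroup G)) : a • Q = Q :=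
  Sylow.smul_eq_iff_mem_normalizer.mpr (le_normalizer ha)

/-- A set of Sylow subgroups containing `P` and invariant under `P` has size `1` modulo `p`. -/
theorem ncard_sylow_modEq_one (P : Sylow p G) {S : Set (Sylow p G)} (hP : P ∈ S)
    (hS : ∀ a ∈ (P : Subgroup G), ∀ w ∈ S, a • w ∈ S) : S.ncard ≡ 1 [MOD p] := by
  have := ncard_modEq_of_invariant P.isPGroup' hS
  rwa [show {w ∈ S | ∀ a ∈ (P : Subgroup G), a • w = w} = {P} from Set.eq_singleton_iff_unique_mem.mpr
    ⟨⟨hP, fun a ha => smul_sylow_eq_of_mem ha⟩, fun Q hQ => sylow_eq_of_forall_smul_eq hQ.2⟩,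
    Set.ncard_singleton] at this

theorem ncard_fixedBy_sylow_modEq_one (P : Sylow p G) {x : G}
    (hx : x ∈ centralizer ((P : Subgroup G) : Set G)) :
    (fixedBy (Sylow p G) x).ncard ≡ 1 [MOD p] :=
  ncard_sylow_modEq_one P (Sylow.smul_eq_iff_mem_normalizer.mpr (centralizer_le_normalizer _ hx))
    fun a ha _ hw => smul_mem_fixedBy_of_commute (hx a ha).symm hw

theorem inf_centralizer_eq_bot_of_card_eq_prime {P : Subgroup G} (hP : Nat.card P = p) {t : G}
    (ht : t ∉ centralizer (P : Set G)) : P ⊓ centralizer {t} = ⊥ := by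
  have h1 : P ⊓ centralizer {t} ≠ P := fun e => ht fun a ha =>
    mem_centralizer_singleton_iff.mp (inf_eq_left.mp e ha)
  have h2 := card_dvd_of_le (inf_le_left : P ⊓ centralizer {t} ≤ P)
  rw [hP] at h2
  rcases (Nat.dvd_prime hp.out).mp h2 with h | h
  · exact card_eq_one.mp h
  · exact absurd (Core.eq_of_le_of_card_eq inf_le_left (h.trans hP.symm)) h1

/-- An element normalizing but not centralizing a Sylow subgroup of prime order `p` normalizes at
most `1 + (n_p - 1) / p` Sylow `p`-subgroups. -/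
theorem mul_ncard_fixedBy_sylow_le (P : Sylow p G) (hP : Nat.card P = p) {t : G}
    (ht : t ∈ normalizer ((P : Subgroup G) : Set G))
    (ht' : t ∉ centralizer ((P : Subgroup G) : Set G)) :
    1 ≤ (fixedBy (Sylow p G) t).ncard ∧
      p * (fixedBy (Sylow p G) t).ncard + 1 ≤ Nat.card (Sylow p G) + p := by
  have hPt : P ∈ fixedBy (Sylow p G) t := Sylow.smul_eq_iff_mem_normalizer.mpr ht
  have h1 := card_mul_ncard_fixedBy_le (Ω := Sylow p G) ht
    (inf_centralizer_eq_bot_of_card_eq_prime hP ht') (S := {P}ᶜ)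
    (fun a ha w hw e => hw (by
      rw [Set.mem_singleton_iff] at e ⊢
      rw [← inv_smul_smul a w, e, smul_sylow_eq_of_mem (inv_mem ha)]))
    (fun a ha w hw e => by
      have h2 := card_dvd_of_le (inf_le_left : (P : Subgroup G) ⊓ w ≤ P)
      rw [hP] at h2
      rcases (Nat.dvd_prime hp.out).mp h2 with h | h
      · exact mem_bot.mp (card_eq_one.mp h ▸
          mem_inf.mpr ⟨ha, mem_sylow_of_smul_eq P.isPGroup' ha e⟩)
      · exact absurd (Sylow.ext (P.is_maximal' w.isPGroup' (inf_eq_left.mp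
          (Core.eq_of_le_of_card_eq inf_le_left (h.trans hP.symm))))) hw)
  have h2 := Set.ncard_add_ncard_compl ({P} : Set (Sylow p G))
  have h3 : ({P}ᶜ ∩ fixedBy (Sylow p G) t).ncard + 1 = (fixedBy (Sylow p G) t).ncard := by
    rw [Set.inter_comm, ← Set.sdiff_eq, Set.ncard_sdiff_singleton_add_one hPt]
  rw [Set.ncard_singleton] at h2
  rw [hP] at h1
  rw [← h3, mul_add]
  omega

/-- Numerical data attached to a Sylow subgroup of prime order of a nonabelian simple group. -/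
theorem exists_sylow_prime_data [IsSimpleGroup G] (hc : ¬ IsMulCommutative G) (P : Sylow p G)
    (hP : Nat.card P = p) : ∃ c r, r ∣ p - 1 ∧ 1 < r ∧
      Nat.card (centralizer ((P : Subgroup G) : Set G)) = p * c ∧
      Nat.card (normalizer ((P : Subgroup G) : Set G)) = p * c * r ∧
      Nat.card (Sylow p G) * (p * c * r) = Nat.card G := by
  have := isCyclic_of_prime_card hP
  obtain ⟨c, hc'⟩ := card_dvd_of_le (le_centralizer (P : Subgroup G))
  rw [hP] at hc'
  have h1 := Core.card_mul_relIndex_of_le (centralizer_le_normalizer ((P : Subgroup G) : Set G))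
  rw [hc'] at h1
  refine ⟨c, _, relIndex_centralizer_normalizer_dvd_of_card_eq_prime hP, ?_, hc', h1.symm, ?_⟩
  · refine Nat.one_lt_iff_ne_zero_and_ne_one.mpr ⟨fun e => ?_, fun e => ?_⟩
    · rw [e, mul_zero] at h1
      exact Nat.card_pos.ne h1
    · exact not_hasNormalPComplement_of_isSimpleGroup hc (hP ▸ card_subgroup_dvd_card _)
        (Transfer.burnside_of_normalizer_le_centralizer P (relIndex_eq_one.mp e))
  · rw [h1, P.card_eq_index_normalizer]
    exact index_mul_card _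

theorem one_lt_card_sylow [IsSimpleGroup G] (hc : ¬ IsMulCommutative G) (h : p ∣ Nat.card G) :
    1 < Nat.card (Sylow p G) := by
  obtain ⟨P⟩ : Nonempty (Sylow p G) := inferInstance
  refine Nat.one_lt_iff_ne_zero_and_ne_one.mpr ⟨Nat.card_pos.ne', fun e => ?_⟩
  have : Subsingleton (Sylow p G) := (Nat.card_eq_one_iff_unique.mp e).1
  have hn : (P : Subgroup G).Normal := P.normal_of_subsingleton
  have h1 : (P : Subgroup G) ≤ pCore p G := Core.le_pCore P.isPGroup'
  rw [pCore_eq_bot_of_isSimpleGroup hc, le_bot_iff] at h1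
  have := P.dvd_card_of_dvd_card h
  rw [h1, card_bot] at this
  exact hp.out.one_lt.ne' (Nat.dvd_one.mp this)

theorem eq_zpowers_of_card_eq_prime {P : Sylow p G} (hP : Nat.card P = p) {u : G}
    (hu : orderOf u = p) (hc : u ∈ centralizer ((P : Subgroup G) : Set G)) :
    (P : Subgroup G) = zpowers u := by
  have h1 : IsPGroup p (zpowers u) := IsPGroup.of_card (n := 1) (by rw [Nat.card_zpowers, hu, pow_one])
  have h2 := mem_sylow_of_smul_eq h1 (mem_zpowers u)
    (Sylow.smul_eq_iff_mem_normalizer.mpr (centralizer_le_normalizer _ hc))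
  exact (Core.eq_of_le_of_card_eq (zpowers_le.mpr h2) (by rw [Nat.card_zpowers, hu, hP])).symm

theorem card_sylow_mul_le_ncard (P : Sylow p G) (hP : Nat.card P = p) (W : Set G) (k : ℕ)
    (h : ∀ Q : Sylow p G,
      k ≤ {x ∈ W | x ∈ centralizer ((Q : Subgroup G) : Set G) ∧ p ∣ orderOf x}.ncard) :
    Nat.card (Sylow p G) * k ≤ W.ncard := by
  classical
  have := Fintype.ofFinite (Sylow p G)
  have := Fintype.ofFinite G
  let F : Sylow p G → Finset G := fun Q =>
    {x ∈ W | x ∈ centralizer ((Q : Subgroup G) : Set G) ∧ p ∣ orderOf x}.toFinset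
  have h1 : (Finset.univ.biUnion F).card = ∑ Q, (F Q).card := by
    refine Finset.card_biUnion fun Q _ Q' _ hQ => Finset.disjoint_left.mpr fun x h1 h2 => hQ ?_
    simp only [F, Set.mem_toFinset, Set.mem_ofPred_eq] at h1 h2
    have hu := orderOf_pow_orderOf_div (orderOf_pos x).ne' h1.2.2
    exact Sylow.ext ((eq_zpowers_of_card_eq_prime ((Q.card_eq_multiplicity.trans
      P.card_eq_multiplicity.symm).trans hP) hu (pow_mem h1.2.1 _)).trans
      (eq_zpowers_of_card_eq_prime ((Q'.card_eq_multiplicity.trans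
      P.card_eq_multiplicity.symm).trans hP) hu (pow_mem h2.2.1 _)).symm)
  have h2 : (Finset.univ.biUnion F).card ≤ W.ncard := by
    rw [Set.ncard_eq_toFinset_card']
    refine Finset.card_le_card fun x hx => ?_
    simp only [F, Finset.mem_biUnion, Set.mem_toFinset, Set.mem_ofPred_eq] at hx ⊢
    obtain ⟨Q, -, hQ⟩ := hx
    exact hQ.1
  refine le_trans ?_ (h1 ▸ h2)
  rw [Nat.card_eq_fintype_card, ← Finset.card_univ, ← smul_eq_mul, ← Finset.sum_const]
  exact Finset.sum_le_sum fun Q _ => (h Q).trans (Set.ncard_eq_toFinset_card' _).le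

theorem card_centralizer_sylow_eq (P Q : Sylow p G) :
    Nat.card (centralizer ((Q : Subgroup G) : Set G)) =
      Nat.card (centralizer ((P : Subgroup G) : Set G)) := by
  obtain ⟨g, rfl⟩ := exists_smul_eq G P Q
  refine Nat.card_congr ⟨fun x => ⟨g⁻¹ * x * g, fun a ha => ?_⟩, fun x => ⟨g * x * g⁻¹, ?_⟩,
    fun x => Subtype.ext (by simp [mul_assoc]), fun x => Subtype.ext (by simp [mul_assoc])⟩
  · have := x.2 (g * a * g⁻¹) (smul_mem_pointwise_smul _ (MulAut.conj g) _ ha)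
    calc a * (g⁻¹ * x * g) = g⁻¹ * (g * a * g⁻¹ * x) * g := by group
      _ = g⁻¹ * x * g * a := by rw [this]; group
  · rintro _ ⟨a, ha, rfl⟩
    have := x.2 a ha
    change g * a * g⁻¹ * _ = _ * (g * a * g⁻¹)
    calc g * a * g⁻¹ * (g * x * g⁻¹) = g * (a * x) * g⁻¹ := by group
      _ = g * x * g⁻¹ * (g * a * g⁻¹) := by rw [this]; group

theorem card_sylow_mul_le_ncard_orderOf_eq (P : Sylow p G) (hP : Nat.card P = p) :
    Nat.card (Sylow p G) * (p - 1) ≤ {x : G | orderOf x = p}.ncard := by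
  refine card_sylow_mul_le_ncard P hP _ _ fun Q => ?_
  have hQ : Nat.card Q = p := (Q.card_eq_multiplicity.trans P.card_eq_multiplicity.symm).trans hP
  have := isCyclic_of_prime_card hQ
  have h1 : (((Q : Subgroup G) : Set G) \ {1}).ncard = p - 1 := by
    rw [Set.ncard_sdiff_singleton_of_mem (one_mem _)]
    exact congrArg (· - 1) hQ
  refine h1 ▸ Set.ncard_le_ncard fun x hx => ?_
  have h2 : orderOf x = p := orderOf_eq_prime
    (hQ ▸ congrArg Subtype.val (pow_card_eq_one' (x := (⟨x, hx.1⟩ : Q)))) hx.2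
  exact ⟨h2, le_centralizer (Q : Subgroup G) hx.1, h2.symm.dvd⟩

theorem card_sylow_mul_le_ncard_dvd_orderOf (P : Sylow p G) (hP : Nat.card P = p) {c : ℕ}
    (hc : Nat.card (centralizer ((P : Subgroup G) : Set G)) = p * c) :
    Nat.card (Sylow p G) * ((p - 1) * c) ≤ {x : G | p ∣ orderOf x}.ncard := by
  refine card_sylow_mul_le_ncard P hP _ _ fun Q => ?_
  have hQ : Nat.card Q = p := (Q.card_eq_multiplicity.trans P.card_eq_multiplicity.symm).trans hP
  have := isCyclic_of_prime_card hQ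
  rw [← card_centralizer_sylow_eq P Q] at hc
  set C := centralizer ((Q : Subgroup G) : Set G)
  have h1 : Nat.card Q * {x | x ∈ C ∧ ¬ p ∣ orderOf x}.ncard ≤ Nat.card C := by
    rw [← Nat.card_coe_set_eq, ← Nat.card_prod]
    refine Nat.card_le_card_of_injective (fun x => (⟨(x.1 : G) * (x.2 : G),
      C.mul_mem (le_centralizer (Q : Subgroup G) x.1.2) x.2.2.1⟩ : C)) ?_
    rintro ⟨⟨a, ha⟩, w, hw, hw'⟩ ⟨⟨b, hb⟩, v, hv, hv'⟩ e
    replace e : a * w = b * v := congrArg Subtype.val e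
    have hab := (Q : Subgroup G).mul_mem (inv_mem hb) ha
    have e1 : b⁻¹ * a * w = v := by rw [mul_assoc, e, inv_mul_cancel_left]
    have e2 : b⁻¹ * a = 1 := by
      by_contra h
      have h2 : orderOf (b⁻¹ * a) = p := orderOf_eq_prime
        (hQ ▸ congrArg Subtype.val (pow_card_eq_one' (x := (⟨_, hab⟩ : Q)))) h
      apply hv'
      rw [← e1, Commute.orderOf_mul_eq_mul_orderOf_of_coprime (hw _ hab)
        (h2 ▸ (Nat.Prime.coprime_iff_not_dvd hp.out).mpr hw'), h2]
      exact dvd_mul_right _ _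
    rw [e2, one_mul] at e1
    obtain rfl := inv_mul_eq_one.mp e2
    subst e1
    rfl
  have h2 : {x | x ∈ C ∧ p ∣ orderOf x}.ncard + {x | x ∈ C ∧ ¬ p ∣ orderOf x}.ncard =
      Nat.card C := by
    rw [← Set.ncard_union_eq (Set.disjoint_left.mpr fun x h1 h2 => h2.2 h1.2)]
    exact congrArg Set.ncard (Set.ext fun x => by simp [← and_or_left, em])
  rw [hQ, hc] at h1
  have h3 := Nat.le_of_mul_le_mul_left h1 hp.out.pos
  have h4 : {x ∈ {x : G | p ∣ orderOf x} | x ∈ C ∧ p ∣ orderOf x} =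
      {x | x ∈ C ∧ p ∣ orderOf x} := Set.ext fun x => ⟨fun h => h.2, fun h => ⟨h.2, h⟩⟩
  rw [h4, Nat.sub_mul, one_mul]
  omega

theorem dvd_card_centralizer_iff (P : Sylow p G) (hP : Nat.card P = p) {q : ℕ} (hq : q.Prime)
    (hpq : p ≠ q) : q ∣ Nat.card (centralizer ((P : Subgroup G) : Set G)) ↔
      ∃ x : G, p ∣ orderOf x ∧ q ∣ orderOf x := by
  haveI := Fact.mk hq
  constructor
  · intro h
    obtain ⟨⟨x, hx⟩, hx'⟩ := exists_prime_orderOf_dvd_card' q h
    obtain ⟨⟨u, hu⟩, hu'⟩ := exists_prime_orderOf_dvd_card' (G := P) p hP.symm.dvd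
    rw [← orderOf_coe] at hx' hu'
    change orderOf x = q at hx'
    change orderOf u = p at hu'
    refine ⟨u * x, ?_⟩
    rw [Commute.orderOf_mul_eq_mul_orderOf_of_coprime (hx u hu)
      (by rw [hx', hu']; exact (Nat.coprime_primes hp.out hq).mpr hpq), hx', hu']
    exact ⟨dvd_mul_right _ _, dvd_mul_left _ _⟩
  · rintro ⟨x, h1, h2⟩
    have hu := orderOf_pow_orderOf_div (orderOf_pos x).ne' h1
    have h3 : IsPGroup p (zpowers (x ^ (orderOf x / p))) :=
      IsPGroup.of_card (n := 1) (by rw [Nat.card_zpowers, hu, pow_one])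
    obtain ⟨Q, hQ⟩ := h3.exists_le_sylow
    have h4 := Core.eq_of_le_of_card_eq hQ (by
      rw [Nat.card_zpowers, hu, Q.card_eq_multiplicity, ← P.card_eq_multiplicity, hP])
    rw [← card_centralizer_sylow_eq P Q, ← h4]
    refine h2.trans (orderOf_dvd_natCard _ ?_)
    rintro _ ⟨k, rfl⟩
    exact ((Commute.refl x).pow_left _).zpow_left k

end Cfsg.Agent.Coprime
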