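import Mathlib
import Cfsg.Agent.Lib.Core.Stable2
import Cfsg.Agent.Lib.Mod.PReduce
import Cfsg.Agent.Lib.Mod.Retract

/-!
# `p`-stability of `p`-solvable groups for `p ≥ 5`; no primitive pairs of `p`-stable groups
-/

set_option autoImplicit false

namespace Cfsg.Agent.Coprime

open Subgroup Cfsg.Agent.Core Polynomial
open scoped commutatorElement Pointwise

universe u v

theorem eq_one_of_sq_eq_zero {L k V : Type*} [Group L] [Finite L] [Field k] [AddCommGroup V]
    [Module k V] {p : ℕ} [CharP k p] (ρ : Representation k L V) {g : L}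
    (hg : (orderOf g).Coprime p) (h4 : (ρ g - 1) * (ρ g - 1) = 0) : ρ g = 1 := by
  have h5 : ρ (g ^ p) = 1 := by
    rw [map_pow, ← add_sub_cancel 1 (ρ g), one_add_pow_of_sq_eq_zero h4]
    refine LinearMap.ext fun v => ?_
    have : (p : Module.End k V) = 0 := by
      rw [← map_natCast (algebraMap k (Module.End k V)), CharP.cast_eq_zero, map_zero]
    simp [this]
  exact (zpowers_le (H := ρ.ker)).2 h5 (mem_zpowers_pow_iff.2 hg.symm)

theorem rep_trivial_of_quadratic_solv {L : Type u} [Group L] [Finite L] {p : ℕ} [hp : Fact p.Prime]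
    (hp5 : 5 ≤ p) (hL : IsPSolvable p L) {S : Set L} (hgen : closure S = ⊤) {g : L}
    (hg : (orderOf g).Coprime p) {k : Type*} [Field k] [IsAlgClosed k] [CharP k p] (n : ℕ) :
    ∀ (V : Type v) [AddCommGroup V] [Module k V] [FiniteDimensional k V],
      Module.finrank k V = n → ∀ ρ : Representation k L V,
      (∀ a ∈ S, (ρ a - 1) * (ρ a - 1) = 0) → ρ g = 1 := by
  induction n using Nat.strong_induction_on with
  | h n ih =>
  intro V _ _ _ hn ρ hS
  by_cases hirr : ∃ U : Submodule k V, U ≠ ⊥ ∧ U ≠ ⊤ ∧ ∀ h, U ≤ U.comap (ρ h)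
  · obtain ⟨U, h0, h1, hU⟩ := hirr
    have e1 := ih _ (hn ▸ Submodule.finrank_lt h1) U rfl (ρ.subrepresentation U hU) fun a ha =>
      LinearMap.ext fun v => Subtype.ext (LinearMap.congr_fun (hS a ha) v)
    have e2 := ih (Module.finrank k (V ⧸ U)) (by
      have := U.finrank_quotient_add_finrank
      have h2 : 0 < Module.finrank k U := Nat.pos_of_ne_zero (mt Submodule.finrank_eq_zero.1 h0)
      omega) (V ⧸ U) rfl (ρ.quotient U hU) fun a ha => LinearMap.ext fun v => by
        obtain ⟨v, rfl⟩ := Submodule.Quotient.mk_surjective _ v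
        exact congrArg Submodule.Quotient.mk (LinearMap.congr_fun (hS a ha) v)
    refine eq_one_of_sq_eq_zero ρ hg (LinearMap.ext fun v => ?_)
    have h3 : ρ g v - v ∈ U := (Submodule.Quotient.eq _).1
      (LinearMap.congr_fun e2 (Submodule.Quotient.mk v))
    have h4 : ρ g (ρ g v - v) = ρ g v - v :=
      congrArg Subtype.val (LinearMap.congr_fun e1 ⟨_, h3⟩)
    simp [h4]
  push Not at hirr
  rcases subsingleton_or_nontrivial V with hV | hV
  · exact Subsingleton.elim _ _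
  have h0 : pCore p (L ⧸ ρ.ker) = ⊥ := by
    have h1 := Mod.IsInv.inf_fix_ne_bot_of_isPGroup (ρ := Mod.kerRep ρ) (X := ⊤)
      (isPGroup_pCore (G := L ⧸ ρ.ker) p) (fun _ _ _ _ => trivial) top_ne_bot
    rw [top_inf_eq] at h1
    have h2 : Mod.fix (Mod.kerRep ρ) (pCore p (L ⧸ ρ.ker)) = ⊤ := by
      by_contra h2
      obtain ⟨h, hh⟩ := hirr _ h1 h2
      exact hh fun v hv => Mod.isInv_fix (ρ := Mod.kerRep ρ) (A := ⊤) le_normalizer_of_normal
        (QuotientGroup.mk' _ h) trivial v hv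
    exact eq_bot_iff.2 fun x hx => Mod.kerRep_injective
      ((Mod.fix_eq_top_iff.1 h2 x hx).trans (map_one _).symm)
  have h1 : ∀ a ∈ S, a ∈ ρ.ker := by
    intro a ha
    by_contra hne
    have hpa : ρ (a ^ p) = 1 := by
      rw [map_pow, ← add_sub_cancel 1 (ρ a), one_add_pow_of_sq_eq_zero (hS a ha)]
      have : (p : Module.End k V) = 0 := by
        rw [← map_natCast (algebraMap k (Module.End k V)), CharP.cast_eq_zero, map_zero]
      simp [this]
    obtain ⟨q, -, -, Q, -, -, i, hi, d, -, -, h5⟩ := Mod.hallHigman_pSolvable (ρ := Mod.kerRep ρ)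
      (isPSolvable_quotient hL ρ.ker)
      (by rw [h0]; exact (MonoidHom.ker_eq_bot_iff _).2 Mod.kerRep_injective) (n := 0)
      (x := QuotientGroup.mk' _ a)
      (by rw [h0, pow_zero, pow_one, mem_bot]; exact fun e => hne ((QuotientGroup.eq_one_iff a).1 e))
      (by rw [h0, zero_add, pow_one, mem_bot, ← map_pow]; exact (QuotientGroup.eq_one_iff _).2 hpa)
      (f := (X - C 1) ^ 2) (pow_ne_zero _ (X_sub_C_ne_zero 1))
      (by rw [Mod.kerRep_mk, map_pow, map_sub, aeval_X, aeval_C, map_one, sq]; exact hS a ha)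
      (by rw [natDegree_pow, natDegree_X_sub_C]; simp; omega)
    rw [natDegree_pow, natDegree_X_sub_C, Nat.le_zero.1 hi] at h5
    simp at h5
    omega
  exact (hgen.ge.trans ((closure_le _).2 h1) : ⊤ ≤ ρ.ker) (mem_top g)

theorem rep_trivial_of_quadratic_solv' {L : Type u} [Group L] [Finite L] {p : ℕ}
    [hp : Fact p.Prime] (hp5 : 5 ≤ p) (hL : IsPSolvable p L) {S : Set L} (hgen : closure S = ⊤)
    {g : L} (hg : (orderOf g).Coprime p) {k : Type} [Field k] [CharP k p] {V : Type v}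
    [AddCommGroup V] [Module k V] [FiniteDimensional k V] (ρ : Representation k L V)
    (hS : ∀ a ∈ S, (ρ a - 1) * (ρ a - 1) = 0) : ρ g = 1 := by
  rw [← Mod.bc_eq_one_iff (AlgebraicClosure k)]
  refine rep_trivial_of_quadratic_solv hp5 hL hgen hg (k := AlgebraicClosure k) _
    (TensorProduct k (AlgebraicClosure k) V) rfl (Mod.bc (AlgebraicClosure k) ρ) fun a ha => ?_
  have := congrArg (Module.End.baseChangeHom k (AlgebraicClosure k) V) (hS a ha)
  rwa [map_mul, map_sub, map_one, map_zero] at this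

theorem aut_trivial_of_quadratic_solv {L : Type u} [Group L] [Finite L] {p : ℕ} [hp : Fact p.Prime]
    (hp5 : 5 ≤ p) (hL : IsPSolvable p L) {S : Set L} (hgen : closure S = ⊤) {g : L}
    (hg : (orderOf g).Coprime p) {E : Type v} [CommGroup E] [Finite E] (hE : ∀ x : E, x ^ p = 1)
    (φ : L →* MulAut E) (hS : ∀ a ∈ S, ∀ v, φ a (φ a v / v) = φ a v / v) : φ g = 1 := by
  letI := PGrp.zmodModule hE
  have hfd : FiniteDimensional (ZMod p) (Additive E) := Module.Finite.of_finite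
  have key := @rep_trivial_of_quadratic_solv' L _ _ p _ hp5 hL S hgen g hg (ZMod p) _ _
    (Additive E) _ _ hfd (Mod.repOfAut p φ) fun a ha => LinearMap.ext fun v => by
      change Mod.repOfAut p φ a (Mod.repOfAut p φ a v - v) - (Mod.repOfAut p φ a v - v) = 0
      rw [sub_eq_zero]
      exact hS a ha (Additive.toMul v)
  exact MulEquiv.ext fun v => LinearMap.congr_fun key (Additive.ofMul v)

variable {G : Type*} [Group G] [Finite G] {p : ℕ}

theorem commutator_mem_of_quadratic_solv [Fact p.Prime] (hp5 : 5 ≤ p) {V N : Subgroup G}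
    {a b : G} (h2 : IsPSolvable p (closure ({a, b} : Set G)))
    (hV : closure ({a, b} : Set G) ≤ normalizer (V : Set G))
    (hN : closure ({a, b} : Set G) ≤ normalizer (N : Set G)) (hVV : ⁅V, V⁆ ≤ N)
    (hVp : ∀ v ∈ V, v ^ p ∈ N) (ha : ∀ v ∈ V, ⁅a, ⁅a, v⁆⁆ ∈ N) (hb : ∀ v ∈ V, ⁅b, ⁅b, v⁆⁆ ∈ N)
    {g : G} (hg : g ∈ closure ({a, b} : Set G)) (ho : (orderOf g).Coprime p) :
    ∀ v ∈ V, ⁅v, g⁆ ∈ N := by
  set L := closure ({a, b} : Set G) with hL
  have hle : _root_.commutator V ≤ N.subgroupOf V := by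
    rw [subgroupOf, ← map_le_iff_le_comap, map_subtype_commutator]; exact hVV
  have hn : (N.subgroupOf V).Normal := Normal.of_commutator_le _ hle
  have hc : IsMulCommutative (V ⧸ N.subgroupOf V) :=
    Normal.quotient_commutative_iff_commutator_le.mpr hle
  have haL : a ∈ L := Subgroup.subset_closure (by simp)
  have hbL : b ∈ L := Subgroup.subset_closure (by simp)
  have hgen : closure ({⟨a, haL⟩, ⟨b, hbL⟩} : Set L) = ⊤ := by
    apply map_injective L.subtype_injective
    rw [MonoidHom.map_closure, Set.image_pair, ← MonoidHom.range_eq_map, range_subtype]; rfl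
  open scoped IsMulCommutative in
  have hq : ∀ c : L, (∀ v ∈ V, ⁅(c : G), ⁅(c : G), v⁆⁆ ∈ N) → ∀ v,
      sectionHom hV hN c (sectionHom hV hN c v / v) = sectionHom hV hN c v / v := fun c hc v => by
    obtain ⟨w, hw⟩ := QuotientGroup.mk_surjective v
    rw [← hw, sectionHom_mk, ← QuotientGroup.mk_div, sectionHom_mk, eq_comm,
      QuotientGroup.eq_iff_div_mem, ← inv_mem_iff, inv_div, mem_subgroupOf]
    have := hc w w.2
    simp only [commutatorElement_def] at this
    convert this using 1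
    simp [conjHom, div_eq_mul_inv, mul_assoc]
  open scoped IsMulCommutative in
  have key := aut_trivial_of_quadratic_solv hp5 h2 hgen (g := ⟨g, hg⟩) (by rwa [orderOf_mk])
    (E := V ⧸ N.subgroupOf V) (fun x => by
      obtain ⟨w, rfl⟩ := QuotientGroup.mk_surjective x
      rw [← QuotientGroup.mk_pow, QuotientGroup.eq_one_iff]
      exact hVp w w.2) (sectionHom hV hN) (by
      rintro _ (rfl | rfl)
      exacts [hq _ ha, hq _ hb])
  exact (mem_ker_sectionHom hV hN ⟨g, hg⟩).1 key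

/-- `p`-stability of the subgroup `M`. -/
def PStab (p : ℕ) (M : Subgroup G) : Prop :=
  ∀ V N S : Subgroup G, M ≤ normalizer (V : Set G) → M ≤ normalizer (N : Set G) → ⁅V, V⁆ ≤ N →
    (∀ v ∈ V, v ^ p ∈ N) → IsSylowIn p S M → ∀ {w : G}, w ∈ M → (∀ v ∈ V, ⁅w, ⁅w, v⁆⁆ ∈ N) →
    w ∈ S ⊔ (M ⊓ relCentralizer V N)

theorem pStab_of_abelian [Fact p.Prime] (hp2 : p ≠ 2) {M : Subgroup G}
    (h2 : ∀ P ≤ M, IsPGroup 2 P → IsMulCommutative P) : PStab p M :=
  fun _ _ _ hV hN hVV hVp hS _ hw h =>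
    mem_sup_relCentralizer_of_quadratic hp2 h2 hV hN hVV hVp hS hw h

theorem pStab_of_isPSolvable [Fact p.Prime] (hp5 : 5 ≤ p) {M : Subgroup G}
    (h2 : IsPSolvable p M) : PStab p M := by
  intro V N S hV hN hVV hVp hS w hw h
  refine mem_sup_of_forall_pResidualOf_le
    (le_normalizer_inf le_normalizer (le_normalizer_relCentralizer hV hN)) hS hw fun g hg => ?_
  have hL : closure {w, g * w * g⁻¹} ≤ M := (closure_le _).2 (by
    rintro _ (rfl | rfl)
    exacts [hw, mul_mem (mul_mem hg hw) (inv_mem hg)])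
  refine pResidualOf_le_of_forall fun x hx ho => ⟨hL hx, hN (hL hx),
    commutator_mem_of_quadratic_solv hp5 (isPSolvable_of_le h2 hL) (hL.trans hV) (hL.trans hN)
      hVV hVp h (fun v hv => ?_) hx ho⟩
  have := conj_mem_of_le_normalizer hN hg (h _ (conj_mem_of_le_normalizer' hV hg hv))
  convert this using 1
  simp [commutatorElement_def, mul_assoc]

/-- In characteristic `p`, elements acting quadratically on `O_p(M)` lie in `O_p(M)`. -/
theorem mem_pCoreOf_of_quadratic' [Fact p.Prime] {M : Subgroup G}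
    (h2 : PStab p M) (hc : IsCharIn p M) {w : G} (hw : w ∈ M)
    (h : ∀ v ∈ pCoreOf p M, ⁅w, ⁅w, v⁆⁆ = 1) : w ∈ pCoreOf p M := by
  set Q := pCoreOf p M with hQ
  have hQp : IsPGroup p Q := isPGroup_pCoreOf M
  have hN := (le_normalizer_pCoreOf (p := p) M).trans
    (normalizer_le_normalizer_map_of_characteristic Q (frattini Q))
  refine mem_pCoreOf_of_forall_sylow hw fun S hS => ?_
  have h1 := h2 _ _ _ (le_normalizer_pCoreOf M) hN
    (PGrp.commutator_le_map_frattini hQp) (fun v hv => PGrp.pow_mem_map_frattini hQp hv) hS hw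
    fun v hv => by rw [h v hv]; exact one_mem _
  refine sup_le le_rfl (le_trans ?_ (pCoreOf_le_of_isSylowIn hS)) h1
  set C := M ⊓ relCentralizer Q ((frattini Q).map Q.subtype) with hC
  refine le_pCoreOf inf_le_left
    (le_normalizer_inf le_normalizer (le_normalizer_relCentralizer (le_normalizer_pCoreOf M) hN))
    (isPGroup_of_forall_mem fun x hx => ?_)
  obtain ⟨k, hk⟩ := Transfer.exists_pow_pow_coprime (p := p) x
  have hx' := pow_mem hx (p ^ k)
  have h3 := le_centralizer_of_commutator_le_frattini (A := zpowers (x ^ p ^ k))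
    (coprime_card_of_isPGroup (by rwa [Nat.card_zpowers]) hQp)
    (commutator_le.2 fun v hv y hy => (zpowers_le.2 hx' hy).2.2 v hv)
  obtain ⟨j, hj⟩ := hQp ⟨_, hc (mem_inf.2 ⟨hx'.1, h3 (mem_zpowers _)⟩)⟩
  exact ⟨k + j, by rw [pow_add, pow_mul]; exact congrArg Subtype.val hj⟩

theorem le_pCoreOf_of_isMulCommutative' [Fact p.Prime] {M W : Subgroup G}
    (h2 : PStab p M) (hc : IsCharIn p M) (hW : IsMulCommutative W)
    (hle : W ≤ M) (hn : pCoreOf p M ≤ normalizer (W : Set G)) : W ≤ pCoreOf p M := fun _ hw =>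
  mem_pCoreOf_of_quadratic' h2 hc (hle hw) fun _ hv => quadratic_of_mem_normalizer hW hw (hn hv)

theorem mem_centralizer_invClosure_of_quadratic' [Fact p.Prime] {M S Z : Subgroup G}
    (h2 : PStab p M) (hS : IsSylowIn p S M)
    (hZ : Z ≤ centralizer (S : Set G)) (hV : IsElementaryAbelian p (invClosure Z M)) {w : G}
    (hw : w ∈ M) (h : ∀ v ∈ invClosure Z M, ⁅w, ⁅w, v⁆⁆ = 1) :
    w ∈ centralizer (invClosure Z M : Set G) := by
  refine zpowers_le.1 (le_centralizer_iff.1 (invClosure_le_of_forall fun m hm =>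
    le_centralizer_iff.1 (zpowers_le.2 ?_)))
  refine sup_le ?_ (inf_le_right.trans ((relCentralizer_bot_le _).trans
    (centralizer_le (map_conj_le_invClosure Z hm))))
    (h2 _ _ _ (le_normalizer_invClosure Z M)
      le_normalizer_of_normal (PGrp.isMulCommutative_iff_commutator_eq_bot.1 hV.1).le
      (fun v hv => mem_bot.2 (hV.2 v hv)) (hS.map_conj_of_mem_normalizer (le_normalizer hm)) hw
      fun v hv => mem_bot.2 (h v hv))
  rw [centralizer_map_conj]
  exact map_mono (le_centralizer_iff.1 hZ)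

theorem mem_pCoreOf_of_quadratic_of_centralizer_le' [Fact p.Prime]
    {M K W : Subgroup G} (h2 : PStab p M)
    (hW : IsElementaryAbelian p W) (hn : M ≤ normalizer (W : Set G))
    (hC : M ⊓ centralizer (W : Set G) ≤ K) {w : G} (hw : w ∈ M) (hw' : w ∈ pCoreOf p K)
    (h : ∀ v ∈ W, ⁅w, ⁅w, v⁆⁆ = 1) : w ∈ pCoreOf p M := by
  refine mem_pCoreOf_of_forall_sylow hw fun S hS => ?_
  set C := M ⊓ centralizer (W : Set G) with hCdef
  have hMC : M ≤ normalizer (C : Set G) :=
    le_normalizer_inf le_normalizer (le_normalizer_centralizer hn)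
  have h1 : w ∈ S ⊔ C := sup_le_sup_left (inf_le_inf_left _ (relCentralizer_bot_le _)) _
    (h2 _ _ _ hn le_normalizer_of_normal
      (PGrp.isMulCommutative_iff_commutator_eq_bot.1 hW.1).le (fun v hv => mem_bot.2 (hW.2 v hv))
      hS hw fun v hv => mem_bot.2 (h v hv))
  obtain ⟨y, hy, hwy⟩ := (hS.mono le_sup_left (sup_le hS.1 inf_le_left)).exists_le_conj
    (zpowers_le.2 h1) ((isPGroup_pCoreOf K).to_le (zpowers_le.2 hw'))
  rw [sup_comm, Core.mem_sup_of_le_normalizer' (hS.1.trans hMC)] at hy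
  obtain ⟨c, hc, s, hs, rfl⟩ := hy
  rw [map_conj_mul_of_mem_normalizer c (le_normalizer hs), zpowers_le, mem_map_conj] at hwy
  have h3 : ⁅w, c⁻¹⁆ ∈ pCoreOf p K ⊓ C := mem_inf.2 ⟨commutator_le_of_le_normalizer
    (hC.trans (le_normalizer_pCoreOf K)) (commutator_mem_commutator hw' (inv_mem hc)),
    mul_mem (conj_mem_of_le_normalizer hMC hw (inv_mem hc)) (inv_mem (inv_mem hc))⟩
  have h4 := mul_mem (pCoreOf_le_of_isSylowIn hS
    (pCoreOf_le_of_le_normalizer inf_le_left hMC (pCoreOf_inf_le hC h3))) hwy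
  simpa [commutatorElement_def, mul_assoc] using h4

/-- There is no primitive pair of characteristic `p` of `p`-stable subgroups. -/
theorem no_primitive_pair [Fact p.Prime] {M₁ M₂ : Subgroup G} (hne : M₁ ≠ M₂)
    (hP : ∀ A : Subgroup G, A ≠ ⊥ → A ≤ M₁ ⊓ M₂ →
      (M₁ ≤ normalizer (A : Set G) → M₂ ⊓ normalizer (A : Set G) = M₁ ⊓ M₂) ∧
      (M₂ ≤ normalizer (A : Set G) → M₁ ⊓ normalizer (A : Set G) = M₁ ⊓ M₂))
    (c₁ : IsCharIn p M₁) (c₂ : IsCharIn p M₂) (hQ₁ : pCoreOf p M₁ ≤ M₂) (hQ₂ : pCoreOf p M₂ ≤ M₁)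
    (a₁ : PStab p M₁) (a₂ : PStab p M₂) : False := by
  have hprim : ∀ A : Subgroup G, A ≤ M₁ → A ≤ M₂ → M₁ ≤ normalizer (A : Set G) →
      M₂ ≤ normalizer (A : Set G) → A = ⊥ := fun A a1 a2 n1 n2 => by
    by_contra hA
    have h := hP A hA (le_inf a1 a2)
    have e1 := h.1 n1
    have e2 := h.2 n2
    rw [inf_eq_left.2 n2] at e1
    rw [inf_eq_left.2 n1] at e2
    exact hne (e2.trans e1.symm)
  have hbot : ∀ M : Subgroup G, IsCharIn p M → pCoreOf p M = ⊥ → M = ⊥ := fun M h e => by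
    rw [IsCharIn, e, inf_eq_left.2 (le_centralizer_iff.1 bot_le)] at h
    exact eq_bot_iff.2 h
  have hQb : pCoreOf p M₂ ≠ ⊥ := fun e => by
    have e2 := hbot _ c₂ e
    exact hne ((hbot _ c₁ (eq_bot_iff.2 (hQ₁.trans e2.le))).trans e2.symm)
  obtain ⟨S, hS⟩ := exists_isSylowIn p M₂
  have hSb : S ≠ ⊥ := fun e => hQb (eq_bot_iff.2 ((pCoreOf_le_of_isSylowIn hS).trans e.le))
  set Z := omegaOne p (S ⊓ centralizer (S : Set G)) with hZdef
  have hZ : Z ≤ S ⊓ centralizer (S : Set G) := PGrp.omegaOne_le _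
  have hZp : ∀ z ∈ Z, z ^ p = 1 := (PGrp.isElementaryAbelian_omegaOne
    (le_centralizer_iff_isMulCommutative.1 (inf_le_right.trans (centralizer_le inf_le_left)))).2
  have hZb : Z ≠ ⊥ := PGrp.omegaOne_ne_bot (hS.2.1.to_le inf_le_left)
    (PGrp.inf_centralizer_ne_bot hS.2.1 hS.2.1 le_normalizer hSb)
  have hV := isElementaryAbelian_invClosure c₂ hS hZ hZp
  have hV₂ := (invClosure_le_pCoreOf c₂ hS hZ).trans inf_le_left
  have hU := fun w => mem_centralizer_invClosure_of_quadratic' (w := w) a₂ hS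
    (hZ.trans inf_le_right) hV
  set V := invClosure Z M₂ with hVdef
  have hVb : V ≠ ⊥ := fun e => hZb (eq_bot_iff.2 ((le_invClosure Z M₂).trans e.le))
  have hVn : M₂ ≤ normalizer (V : Set G) := le_normalizer_invClosure Z M₂
  have hV₁ : V ≤ pCoreOf p M₁ :=
    le_pCoreOf_of_isMulCommutative' a₁ c₁ hV.1 (hV₂.trans hQ₂) (hQ₁.trans hVn)
  have hn : ∀ {W K : Subgroup G} (g : G), W.map (MulAut.conj g⁻¹).toMonoidHom ≤
      normalizer (K : Set G) →
      W ≤ normalizer ((K.map (MulAut.conj g).toMonoidHom : Subgroup G) : Set G) :=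
    fun g h => by rw [normalizer_map_conj]; exact (map_conj_le_iff.1 h).trans (by rw [inv_inv])
  have hcomm : ∀ g h : G, V.map (MulAut.conj (h⁻¹ * g)).toMonoidHom ≤ M₂ →
      V.map (MulAut.conj (h⁻¹ * g)⁻¹).toMonoidHom ≤ M₂ → V.map (MulAut.conj g).toMonoidHom ≤
        centralizer ((V.map (MulAut.conj h).toMonoidHom : Subgroup G) : Set G) :=
    fun g h h1 h2 => by
      rw [centralizer_map_conj, ← inv_inv h, ← map_conj_le_iff, map_conj_map_conj]
      exact fun w hw => hU w (h1 hw) fun v hv => quadratic_of_mem_normalizer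
        (PGrp.isMulCommutative_map hV.1 _) hw (hn _ (h2.trans hVn) hv)
  have hm : ∀ {W M : Subgroup G} {m : G}, W ≤ pCoreOf p M → m ∈ M →
      W.map (MulAut.conj m).toMonoidHom ≤ pCoreOf p M := fun h hm =>
    (map_mono h).trans (map_conj_eq_iff.2 (le_normalizer_pCoreOf _ hm)).le
  set W₁ := invClosure V M₁ with hW₁
  have hW₁e : IsElementaryAbelian p W₁ := by
    rw [hW₁, invClosure_eq_iSup]
    refine isElementaryAbelian_sSup (by
      rintro _ ⟨m, rfl⟩; exact PGrp.isElementaryAbelian_map hV _) ?_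
    rintro _ ⟨m, rfl⟩ _ ⟨k, rfl⟩
    have := mul_mem (inv_mem k.2) m.2
    exact hcomm _ _ ((hm hV₁ this).trans hQ₁) ((hm hV₁ (inv_mem this)).trans hQ₁)
  have hW₁n : M₁ ≤ normalizer (W₁ : Set G) := le_normalizer_invClosure _ _
  have hW₁₁ : W₁ ≤ pCoreOf p M₁ := invClosure_le hV₁ (le_normalizer_pCoreOf _)
  have hW₁₂ : W₁ ≤ pCoreOf p M₂ :=
    le_pCoreOf_of_isMulCommutative' a₂ c₂ hW₁e.1 (hW₁₁.trans hQ₁) (hQ₂.trans hW₁n)
  have hC₁ : M₁ ⊓ centralizer (W₁ : Set G) ≤ M₂ := (inf_le_inf_left _ ((centralizer_le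
    (le_invClosure V M₁)).trans (centralizer_le_normalizer _))).trans
      (((hP V hVb (le_inf (hV₂.trans hQ₂) (hV₁.trans hQ₁))).2 hVn).le.trans inf_le_right)
  set W₂ := invClosure W₁ M₂ with hW₂
  have hW₂n : M₂ ≤ normalizer (W₂ : Set G) := le_normalizer_invClosure _ _
  have hW₂₂ : W₂ ≤ pCoreOf p M₂ := invClosure_le hW₁₂ (le_normalizer_pCoreOf _)
  have hW₂₁ : W₂ ≤ pCoreOf p M₁ := invClosure_le_of_forall fun m hm' w hw =>
    mem_pCoreOf_of_quadratic_of_centralizer_le' a₁ hW₁e hW₁n hC₁ (hQ₂ (hm hW₁₂ hm' hw))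
      (hm hW₁₂ hm' hw) fun v hv => quadratic_of_mem_normalizer
        (PGrp.isMulCommutative_map hW₁e.1 _) hw
        (hn _ ((hm hW₁₂ (inv_mem hm')).trans (hQ₂.trans hW₁n)) hv)
  have hC₂ : M₂ ⊓ centralizer (W₂ : Set G) ≤ M₁ := (inf_le_inf_left _ ((centralizer_le
    (le_invClosure W₁ M₂)).trans (centralizer_le_normalizer _))).trans
      (((hP W₁ (fun e => hVb (eq_bot_iff.2 ((le_invClosure V M₁).trans e.le)))
        (le_inf (hW₁₂.trans hQ₂) (hW₁₁.trans hQ₁))).1 hW₁n).le.trans inf_le_left)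
  have hgen : ∀ K : Subgroup G, (∀ a ∈ M₂, ∀ b ∈ M₁,
      V.map (MulAut.conj (a * b)).toMonoidHom ≤ K) → W₂ ≤ K := fun K h =>
    invClosure_le_of_forall fun a ha => map_conj_le_iff.2 (invClosure_le_of_forall fun b hb =>
      map_conj_le_iff.1 (by rw [map_conj_map_conj]; exact h a ha b hb))
  have hle₂ : ∀ a ∈ M₂, ∀ b ∈ M₁, V.map (MulAut.conj (a * b)).toMonoidHom ≤ W₂ :=
    fun a ha b hb => by
      rw [← map_conj_map_conj]
      exact (map_mono (map_conj_le_invClosure V hb)).trans (map_conj_le_invClosure W₁ ha)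
  have hW₂c : W₂ ≤ centralizer (W₂ : Set G) := hgen _ fun a ha b hb => le_centralizer_iff.1
    (hgen _ fun a' ha' b' hb' => by
      have k : ∀ x ∈ M₁, ∀ y ∈ M₂, ∀ z ∈ M₁,
          V.map (MulAut.conj (x * (y * z))).toMonoidHom ≤ M₂ := fun x hx y hy z hz => by
        rw [← map_conj_map_conj]
        exact (hm ((hle₂ y hy z hz).trans hW₂₁) hx).trans hQ₁
      refine hcomm _ _ ?_ ?_
      · simpa [mul_assoc] using k _ (inv_mem hb) _ (mul_mem (inv_mem ha) ha') _ hb'
      · simpa [mul_assoc] using k _ (inv_mem hb') _ (mul_mem (inv_mem ha') ha) _ hb)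
  have hW₂e : IsElementaryAbelian p W₂ :=
    ⟨le_centralizer_iff_isMulCommutative.1 hW₂c, fun x hx => ((PGrp.mem_omegaOne_iff_of_comm
      (le_centralizer_iff_isMulCommutative.1 hW₂c)).1 (hgen (omegaOne p W₂) (fun a ha b hb =>
        PGrp.le_omegaOne_of_pow_eq_one (hle₂ a ha b hb) (PGrp.isElementaryAbelian_map hV _).2)
          hx)).2⟩
  set E : Set G := (M₁ : Set G) ∪ M₂ with hE
  have hE1 : (1 : G) ∈ E := Or.inl (one_mem _)
  have hEi : E⁻¹ = E := by rw [hE, Set.union_inv, inv_coe_set, inv_coe_set]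
  have hE2 : ∀ g ∈ E ^ 2, V.map (MulAut.conj g).toMonoidHom ≤ W₂ := by
    rw [pow_two]
    rintro _ ⟨a, ha, b, hb, rfl⟩
    have k : V.map (MulAut.conj b).toMonoidHom ≤ W₁ := by
      rcases hb with hb | hb
      · exact map_conj_le_invClosure V hb
      · exact (map_conj_eq_iff.2 (hVn hb)).le.trans (le_invClosure _ _)
    change V.map (MulAut.conj (a * b)).toMonoidHom ≤ W₂
    rw [← map_conj_map_conj]
    rcases ha with ha | ha
    · exact (map_mono k).trans ((map_conj_eq_iff.2 (hW₁n ha)).le.trans (le_invClosure _ _))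
    · exact (map_mono k).trans (map_conj_le_invClosure W₁ ha)
  have main : ∀ n, ∀ g ∈ E ^ (n + 2),
      V.map (MulAut.conj g).toMonoidHom ≤ pCoreOf p M₁ ⊓ pCoreOf p M₂ := by
    intro n
    induction n with
    | zero => exact fun g hg => (hE2 g hg).trans (le_inf hW₂₁ hW₂₂)
    | succ n ih =>
      have k : ∀ g ∈ E ^ (n + 1 + 2), V.map (MulAut.conj g).toMonoidHom ≤ pCoreOf p M₁ ∨
          V.map (MulAut.conj g).toMonoidHom ≤ pCoreOf p M₂ := by
        rw [show n + 1 + 2 = (n + 2) + 1 by omega, pow_succ']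
        rintro _ ⟨a, ha, b, hb, rfl⟩
        change V.map (MulAut.conj (a * b)).toMonoidHom ≤ _ ∨ V.map (MulAut.conj (a * b)).toMonoidHom ≤ _
        rw [← map_conj_map_conj]
        exact ha.imp (hm ((ih b hb).trans inf_le_left)) (hm ((ih b hb).trans inf_le_right))
      intro g hg
      have hq : ∀ w ∈ V.map (MulAut.conj g).toMonoidHom, ∀ v ∈ W₂, ⁅w, ⁅w, v⁆⁆ = 1 := by
        rw [pow_add] at hg
        obtain ⟨a, ha, b, hb, rfl⟩ := hg
        intro w hw v hv
        refine quadratic_of_mem_normalizer (W := W₂.map (MulAut.conj a).toMonoidHom)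
          (PGrp.isMulCommutative_map hW₂e.1 _) ?_ (hn a (le_trans ?_ hW₂n) hv)
        · refine map_mono (hE2 b hb) ?_
          rwa [map_conj_map_conj]
        · refine map_conj_le_iff.2 (hgen _ fun x hx y hy => map_conj_le_iff.1 ?_)
          rw [map_conj_map_conj]
          refine (k _ ?_).elim (fun h => h.trans hQ₁) fun h => h.trans (pCoreOf_le _)
          rw [pow_add]
          refine Set.mul_mem_mul ?_ (by rw [pow_two]; exact Set.mul_mem_mul (Or.inr hx) (Or.inl hy))
          rw [← hEi, inv_pow]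
          exact Set.inv_mem_inv.2 ha
      rcases k g hg with h | h
      · exact le_inf h fun w hw => mem_pCoreOf_of_quadratic_of_centralizer_le' a₂ hW₂e hW₂n hC₂
          (hQ₁ (h hw)) (h hw) (hq w hw)
      · exact le_inf (fun w hw => mem_pCoreOf_of_quadratic_of_centralizer_le' a₁ hW₁e hW₁n hC₁
          (hQ₂ (h hw)) (h hw) fun v hv => hq w hw v (le_invClosure _ _ hv)) h
  set N : Subgroup G := ⨆ x : {x : ℕ × G // x.2 ∈ E ^ (x.1 + 2)},
    V.map (MulAut.conj x.1.2).toMonoidHom with hN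
  have hNQ : N ≤ pCoreOf p M₁ ⊓ pCoreOf p M₂ := iSup_le fun x => main _ _ x.2
  have hNn : ∀ m ∈ E, m ∈ normalizer (N : Set G) := fun m hm' =>
    mem_normalizer_of_map_conj_le (by
      rw [Subgroup.map_iSup]
      refine iSup_le fun x => ?_
      rw [map_conj_map_conj]
      exact le_iSup_of_le ⟨(x.1.1 + 1, m * x.1.2), by
        rw [show x.1.1 + 1 + 2 = (x.1.1 + 2) + 1 by omega, pow_succ']
        exact Set.mul_mem_mul hm' x.2⟩ le_rfl)
  refine hVb (eq_bot_iff.2 (le_trans ?_ (hprim N (hNQ.trans (inf_le_left.trans (pCoreOf_le _)))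
    (hNQ.trans (inf_le_right.trans (pCoreOf_le _))) (fun m h => hNn m (Or.inl h))
      fun m h => hNn m (Or.inr h)).le))
  exact le_iSup_of_le ⟨(0, 1), Set.one_mem_pow hE1⟩ (map_conj_one V).ge

end Cfsg.Agent.Coprime
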