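import Mathlib
import Cfsg.Agent.Lib.Coprime.Hall

/-!
# The odd order theorem as a hypothesis

`FT.{u}` is the statement of the odd order theorem for groups in `Type u`.  Results that depend on
it are proved here (and in the files importing this one) with `FT` as an explicit hypothesis.
-/

set_option autoImplicit false

namespace Cfsg.Agent.Coprime

open Subgroup

universe u v

/-- The statement of the odd order theorem in the universe `u`. -/
def FT : Prop :=
  ∀ (G : Type u) [Group G] [Finite G], Odd (Nat.card G) → Group.IsSolvable G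

/-- The odd order theorem in one universe gives it in all. -/
theorem FT.lift (h : FT.{u}) : FT.{v} := by
  intro G _ _ hG
  classical
  obtain ⟨X, ⟨e⟩⟩ : ∃ X : Type u, Nonempty (X ≃ G) :=
    ⟨ULift.{u} (Fin (Nat.card G)), ⟨Equiv.ulift.trans (Finite.equivFin G).symm⟩⟩
  letI : Group X := e.group
  haveI : Finite X := Finite.of_equiv G e.symm
  have hc : Nat.card X = Nat.card G := Nat.card_congr e
  have h1 := h X (by rw [hc]; exact hG)
  exact Group.isSolvable_of_surjective (f := (e.mulEquiv).toMonoidHom) (e.mulEquiv).surjective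

theorem FT.solvable (h : FT.{u}) {G : Type v} [Group G] [Finite G] (hG : Odd (Nat.card G)) :
    Group.IsSolvable G := h.lift G hG

theorem FT.solvable_of_not_dvd (h : FT.{u}) {G : Type v} [Group G] [Finite G]
    (hG : ¬ 2 ∣ Nat.card G) : Group.IsSolvable G :=
  h.solvable (Nat.odd_iff.2 (by omega))

/-- Of two groups of coprime orders one is solvable. -/
theorem FT.solvable_or (h : FT.{u}) {A B : Type*} [Group A] [Finite A] [Group B] [Finite B]
    (hc : (Nat.card A).Coprime (Nat.card B)) : Group.IsSolvable A ∨ Group.IsSolvable B := by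
  by_cases h2 : 2 ∣ Nat.card A
  · refine Or.inr (h.solvable_of_not_dvd fun h3 => ?_)
    have := Nat.dvd_gcd h2 h3
    rw [hc] at this
    omega
  · exact Or.inl (h.solvable_of_not_dvd h2)

variable {π : Set ℕ} {G : Type*} [Group G] [Finite G]

/-- Čunihin: in a `π`-separable group every `π`-subgroup lies in a conjugate of a Hall
`π`-subgroup. -/
theorem FT.exists_le_conj_of_isPiHall (ft : FT.{u}) (h : IsPiSeparable π G) {H U : Subgroup G}
    (hH : IsPiHall π H) (hU : IsPiNum π (Nat.card U)) :
    ∃ g : G, U ≤ H.map (MulAut.conj g).toMonoidHom := by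
  obtain ⟨K, hK⟩ := exists_isPiHall h.compl
  refine Coprime.exists_le_conj_of_isPiHall h hH hU ?_
  rcases ft.solvable_or (A := H) (B := K)
    ((isPiHall_iff.1 hH).1.coprime (isPiHall_iff.1 hK).1) with h1 | h1
  · exact Or.inl h1
  · exact Or.inr (Or.inr ⟨K, hK, h1⟩)

theorem FT.exists_conj_of_isPiHall (ft : FT.{u}) (h : IsPiSeparable π G) {H U : Subgroup G}
    (hH : IsPiHall π H) (hU : IsPiHall π U) :
    ∃ g : G, U = H.map (MulAut.conj g).toMonoidHom := by
  obtain ⟨K, hK⟩ := exists_isPiHall h.compl
  refine Coprime.exists_conj_of_isPiHall h hH hU ?_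
  rcases ft.solvable_or (A := H) (B := K)
    ((isPiHall_iff.1 hH).1.coprime (isPiHall_iff.1 hK).1) with h1 | h1
  · exact Or.inl h1
  · exact Or.inr (Or.inr ⟨K, hK, h1⟩)

end Cfsg.Agent.Coprime
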