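import Cfsg.Agent.Lib.OO.Final
import Cfsg.Agent.Lib.Coprime.FTHyp

set_option autoImplicit false

namespace Cfsg.Agent.Coprime

/-- The odd order theorem. -/
theorem ft : FT.{0} := fun _ _ _ h => OO.Feit_Thompson h

end Cfsg.Agent.Coprime
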