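import Mathlib
import Cfsg.Agent.Lib.Coprime.Generate
import Cfsg.Agent.Lib.Transfer.NilpMax

/-!
# Sylow 2-subgroups of class two that are maximal among invariant subgroups

If `P` is a Sylow `2`-subgroup of class at most two, a group of automorphisms of odd order
normalizes `P`, and every nontrivial invariant normal subgroup of `P` has normalizer `P`, then every
subgroup between `Z(P)` and `P` has normalizer `P`.
-/

set_option autoImplicit false

namespace Cfsg.Agent.Coprime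

open Subgroup
open scoped commutatorElement Pointwise

variable {G : Type*} [Group G]

/-- The local configuration attached to a subgroup `E` of index two in `P`. -/
structure Cfg (P E U : Subgroup G) : Prop where
  le : E ≤ P
  two : ∀ x ∈ P, ∀ y ∈ P, x ∉ E → y ∉ E → x * y ∈ E
  uE : U ≤ E
  cent : ∀ u ∈ U, ∀ e ∈ E, u * e = e * u
  norm : ∀ u ∈ U, ∀ x ∈ P, ⁅u, x⁆ ∈ U
  nc : ∃ u ∈ U, ∃ x ∈ P, ⁅u, x⁆ ≠ 1
  comm : ∀ x ∈ E, ∀ y ∈ E, ⁅x, y⁆ ∈ U → ⁅x, y⁆ = 1
  sq : ∀ x ∈ E, x * x ∈ U → x * x = 1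

namespace Cfg

variable {P E U F V F' V' : Subgroup G}

theorem map {H : Type*} [Group H] (h : Cfg P E U) (f : G →* H) (hf : Function.Injective f) :
    Cfg (P.map f) (E.map f) (U.map f) where
  le := map_mono h.le
  two := by
    rintro _ ⟨x, hx, rfl⟩ _ ⟨y, hy, rfl⟩ h1 h2
    rw [← map_mul]
    exact mem_map_of_mem f (h.two x hx y hy (fun e => h1 (mem_map_of_mem f e))
      (fun e => h2 (mem_map_of_mem f e)))
  uE := map_mono h.uE
  cent := by
    rintro _ ⟨x, hx, rfl⟩ _ ⟨y, hy, rfl⟩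
    rw [← map_mul, ← map_mul, h.cent x hx y hy]
  norm := by
    rintro _ ⟨x, hx, rfl⟩ _ ⟨y, hy, rfl⟩
    rw [← map_commutatorElement]
    exact mem_map_of_mem f (h.norm x hx y hy)
  nc := by
    obtain ⟨u, hu, x, hx, hne⟩ := h.nc
    refine ⟨f u, mem_map_of_mem f hu, f x, mem_map_of_mem f hx, ?_⟩
    rw [← map_commutatorElement, ← map_one f]
    exact fun e => hne (hf e)
  comm := by
    rintro _ ⟨x, hx, rfl⟩ _ ⟨y, hy, rfl⟩ h1
    rw [← map_commutatorElement] at h1 ⊢
    rw [h.comm x hx y hy ((mem_map_iff_mem hf).1 h1), map_one]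
  sq := by
    rintro _ ⟨x, hx, rfl⟩ h1
    rw [← map_mul] at h1 ⊢
    rw [h.sq x hx ((mem_map_iff_mem hf).1 h1), map_one]

theorem comm_eq (h : Cfg P E U) {u x y : G} (hu : u ∈ U) (hx : x ∈ P) (hy : y ∈ P) (hxE : x ∉ E)
    (hyE : y ∉ E) : ⁅u, x⁆ = ⁅u, y⁆ := by
  have h1 := h.cent u hu _ (h.two _ (P.inv_mem hx) y hy (fun e => hxE (E.inv_mem_iff.1 e)) hyE)
  rw [commutatorElement_def, commutatorElement_def]
  calc u * x * u⁻¹ * x⁻¹ = u * x * u⁻¹ * (x⁻¹ * y) * y⁻¹ := by group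
    _ = u * x * (u⁻¹ * (x⁻¹ * y * u)) * u⁻¹ * y⁻¹ := by group
    _ = _ := by rw [← h1]; group

theorem exists_ne (h : Cfg P E U) : ∃ u ∈ U, ∀ x ∈ P, x ∉ E → ⁅u, x⁆ ≠ 1 := by
  obtain ⟨u, hu, x, hx, hne⟩ := h.nc
  refine ⟨u, hu, fun y hy hyE => ?_⟩
  have hxE : x ∉ E := fun e => hne (commutatorElement_eq_one_iff_mul_comm.2 (h.cent u hu x e))
  rwa [h.comm_eq hu hy hx hyE hxE]

theorem mul_self (h : Cfg P E U) {u : G} (hu : u ∈ U) : u * u = 1 :=
  h.sq u (h.uE hu) (U.mul_mem hu hu)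

theorem symm (h : Cfg P E U) (h' : Cfg P F V) (hV : ¬ V ≤ E) : ¬ U ≤ F := by
  intro hU
  obtain ⟨f, hf, hfE⟩ := SetLike.not_le_iff_exists.1 hV
  obtain ⟨u, hu, hne⟩ := h.exists_ne
  exact hne f (h'.le (h'.uE hf)) hfE
    (commutatorElement_eq_one_iff_mul_comm.2 (h'.cent f hf u (hU hu)).symm)

theorem le_of_not_le (h : Cfg P E U) (h1 : Cfg P F V) (h2 : Cfg P F' V') (hV : ¬ V ≤ E)
    (hV' : ¬ V' ≤ E) : F ≤ F' := by
  obtain ⟨f, hf, hfE⟩ := SetLike.not_le_iff_exists.1 hV
  obtain ⟨f', hf', hfE'⟩ := SetLike.not_le_iff_exists.1 hV'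
  obtain ⟨e, he, hne⟩ := h.exists_ne
  have hfP := h1.le (h1.uE hf)
  have hfP' := h2.le (h2.uE hf')
  have heP := h.le (h.uE he)
  have hz : ⁅e, f⁆ ≠ 1 := hne f hfP hfE
  have hz' : ⁅e, f'⁆ ≠ 1 := hne f' hfP' hfE'
  have heF : e ∉ F := fun e1 =>
    hz (commutatorElement_eq_one_iff_mul_comm.2 (h1.cent f hf e e1).symm)
  have heF' : e ∉ F' := fun e1 =>
    hz' (commutatorElement_eq_one_iff_mul_comm.2 (h2.cent f' hf' e e1).symm)
  have hzz : ⁅e, f⁆ = ⁅e, f'⁆ := h.comm_eq he hfP hfP' hfE hfE'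
  intro x hx
  by_contra hxF
  by_cases hc : f' ∈ F
  · have e1 : ⁅f', x⁆ = ⁅f, e⁆ := by
      rw [h2.comm_eq hf' (h1.le hx) heP hxF heF', ← commutatorElement_inv, ← hzz,
        commutatorElement_inv]
    have := h1.comm f' hc x hx (e1 ▸ h1.norm f hf e heP)
    rw [e1, ← commutatorElement_inv, inv_eq_one] at this
    exact hz this
  · have e1 : ⁅f, f'⁆ = ⁅e, f⁆⁻¹ := by
      rw [h1.comm_eq hf hfP' heP hc heF, commutatorElement_inv]
    have e2 : f * f' * (f * f') = ⁅f, f'⁆ := by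
      rw [commutatorElement_def, inv_eq_of_mul_eq_one_right (h1.mul_self hf),
        inv_eq_of_mul_eq_one_right (h2.mul_self hf'), mul_assoc (f * f')]
    have := h.sq _ (h.two f hfP f' hfP' hfE hfE') (by
      rw [e2, e1]; exact U.inv_mem (h.norm e he f hfP))
    rw [e2, e1, inv_eq_one] at this
    exact hz this

theorem eq_of_not_le (h : Cfg P E U) (h1 : Cfg P F V) (h2 : Cfg P F' V') (hV : ¬ V ≤ E)
    (hV' : ¬ V' ≤ E) : F = F' :=
  le_antisymm (h.le_of_not_le h1 h2 hV hV') (h.le_of_not_le h2 h1 hV' hV)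

/-- An automorphism of odd order normalizing `P` maps `U` into `E`. -/
theorem map_le (h : Cfg P E U) (α : MulAut G) (hα : Odd (orderOf α))
    (hP : P.map α.toMonoidHom = P) : U.map α.toMonoidHom ≤ E := by
  by_contra hne
  have h1 : Cfg P (E.map α.toMonoidHom) (U.map α.toMonoidHom) := by
    have := h.map α.toMonoidHom α.injective
    rwa [hP] at this
  have h2 : Cfg P ((E.map α.toMonoidHom).map α.toMonoidHom)
      ((U.map α.toMonoidHom).map α.toMonoidHom) := by
    have := h1.map α.toMonoidHom α.injective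
    rwa [hP] at this
  have h3 : ¬ (U.map α.toMonoidHom).map α.toMonoidHom ≤ E.map α.toMonoidHom := by
    rwa [map_le_map_iff_of_injective α.injective]
  have h4 := h1.eq_of_not_le h h2 (h.symm h1 hne) h3
  have h5 : α ^ 2 ∈ MulAction.stabilizer (MulAut G) E := by
    rw [MulAction.mem_stabilizer_iff, pow_two, mul_smul]
    exact h4.symm
  have h6 : α ∈ MulAction.stabilizer (MulAut G) E := by
    obtain ⟨k, hk⟩ := hα
    have : α = (α ^ 2) ^ (k + 1) := by
      rw [← pow_mul, show 2 * (k + 1) = orderOf α + 1 by omega, pow_succ, pow_orderOf_eq_one,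
        one_mul]
    rw [this]
    exact pow_mem h5 _
  have h7 : E.map α.toMonoidHom = E := h6
  exact hne (h7 ▸ h1.uE)

end Cfg

/-- If `P` is a self-normalizing Sylow subgroup and `[A, P] ≤ B` for normal `A`, `B`, then
`[A, G] ≤ B`. -/
theorem commutator_mem_of_sylow [Finite G] {p : ℕ} [Fact p.Prime] (P : Sylow p G)
    (hNP : normalizer ((P : Subgroup G) : Set G) ≤ P) (A B : Subgroup G) [A.Normal] [B.Normal]
    (h : ∀ a ∈ A, ∀ x ∈ (P : Subgroup G), ⁅a, x⁆ ∈ B) {a : G} (ha : a ∈ A) (g : G) :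
    ⁅a, g⁆ ∈ B := by
  let N : Subgroup G :=
    (centralizer ((A.map (QuotientGroup.mk' B) : Subgroup (G ⧸ B)) : Set (G ⧸ B))).comap
      (QuotientGroup.mk' B)
  haveI : (A.map (QuotientGroup.mk' B)).Normal :=
    Normal.map inferInstance _ (QuotientGroup.mk'_surjective B)
  haveI : N.Normal := Normal.comap inferInstance _
  have hmem : ∀ g, g ∈ N ↔ ∀ a ∈ A, ⁅a, g⁆ ∈ B := by
    intro g
    rw [mem_comap, mem_centralizer_iff]
    constructor
    · intro h1 a ha
      rw [← QuotientGroup.eq_one_iff, ← QuotientGroup.mk'_apply, map_commutatorElement,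
        commutatorElement_eq_one_iff_mul_comm]
      exact h1 _ (mem_map_of_mem _ ha)
    · rintro h1 _ ⟨a, ha, rfl⟩
      rw [← commutatorElement_eq_one_iff_mul_comm, ← map_commutatorElement,
        QuotientGroup.mk'_apply, QuotientGroup.eq_one_iff]
      exact h1 a ha
  have hPN : (P : Subgroup G) ≤ N := fun x hx => (hmem x).2 fun a ha => h a ha x hx
  have htop := Sylow.normalizer_sup_eq_top' P hPN
  have : N = ⊤ := top_le_iff.1 (htop ▸ sup_le (hNP.trans hPN) le_rfl)
  exact (hmem g).1 (this ▸ mem_top g) a ha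

/-- The local step: a normal `2`-subgroup `E` containing `Z(P)`, maximal with normalizer not in
`P`, carries a configuration. -/
theorem exists_cfg_of_normal [Finite G] (P : Sylow 2 G) (E : Subgroup G) [E.Normal]
    (hEP : E ≤ P) (hPtop : (P : Subgroup G) ≠ ⊤)
    (hc : ∀ x ∈ (P : Subgroup G), ∀ y ∈ (P : Subgroup G), ∀ z ∈ (P : Subgroup G),
      z * ⁅x, y⁆ = ⁅x, y⁆ * z)
    (hZE : ∀ z ∈ (P : Subgroup G), (∀ x ∈ (P : Subgroup G), x * z = z * x) → z ∈ E)
    (hNP : normalizer ((P : Subgroup G) : Set G) ≤ P)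
    (hmax : ∀ B : Subgroup G, E < B → B ≤ P → normalizer (B : Set G) ≤ P)
    (hC : ∀ h : G, (∀ z ∈ (P : Subgroup G), (∀ x ∈ (P : Subgroup G), x * z = z * x) →
      z * z = 1 → z * h = h * z) → h ∈ (P : Subgroup G)) :
    ∃ U, Cfg (P : Subgroup G) E U ∧ ∃ k, k ∉ (P : Subgroup G) ∧ ∀ x ∈ E, ⁅x, k⁆ ∈ U := by
  have hEn : E.Normal := inferInstance
  -- the centre of `E` and its elements of order at most two
  let ZE : Subgroup G := E ⊓ centralizer (E : Set G)
  haveI hZEn : ZE.Normal := inferInstance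
  let V : Subgroup G :=
    { carrier := {v | v ∈ ZE ∧ v * v = 1}
      mul_mem' := by
        rintro a b ⟨ha, ha2⟩ ⟨hb, hb2⟩
        refine ⟨ZE.mul_mem ha hb, ?_⟩
        have : a * b = b * a := hb.2 a ha.1
        calc a * b * (a * b) = a * (b * a) * b := by group
          _ = (a * a) * (b * b) := by rw [← this]; group
          _ = 1 := by rw [ha2, hb2, one_mul]
      one_mem' := ⟨ZE.one_mem, one_mul 1⟩
      inv_mem' := by
        rintro a ⟨ha, ha2⟩
        refine ⟨ZE.inv_mem ha, ?_⟩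
        rw [← mul_inv_rev, ha2, inv_one] }
  have hVmem : ∀ v, v ∈ V ↔ v ∈ ZE ∧ v * v = 1 := fun v => Iff.rfl
  haveI hVn : V.Normal := ⟨fun v hv g => (hVmem _).2 ⟨hZEn.conj_mem v hv.1 g, by
    calc g * v * g⁻¹ * (g * v * g⁻¹) = g * (v * v) * g⁻¹ := by group
      _ = 1 := by rw [hv.2]; group⟩⟩
  have hcZE : ∀ x ∈ (P : Subgroup G), ∀ y ∈ (P : Subgroup G), ⁅x, y⁆ ∈ ZE := fun x hx y hy =>
    ⟨hZE _ (commutator_le_self _ (commutator_mem_commutator hx hy)) (fun z hz => hc x hx y hy z hz),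
      fun z hz => hc x hx y hy z (hEP hz)⟩
  have hEG : ∀ x ∈ E, ∀ g, ⁅x, g⁆ ∈ ZE := fun x hx g =>
    commutator_mem_of_sylow P hNP E ZE (fun a ha y hy => hcZE a (hEP ha) y hy) hx g
  -- squares of elements of `P` lie in `E`
  have hCV : centralizer (V : Set G) = E := by
    have h1 : E ≤ centralizer (V : Set G) := fun e he v hv => (hv.1.2 e he).symm
    have h2 : centralizer (V : Set G) ≤ P := fun h hh => hC h fun z hz hz1 hz2 =>
      hh z ((hVmem z).2 ⟨⟨hZE z hz hz1, fun e he => hz1 e (hEP he)⟩, hz2⟩)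
    by_contra hne
    have := hmax _ (lt_of_le_of_ne h1 (Ne.symm hne)) h2
    rw [normalizer_eq_top] at this
    exact hPtop (top_le_iff.1 this)
  have hsq : ∀ s ∈ (P : Subgroup G), s * s ∈ E := by
    intro s hs
    rw [← hCV]
    intro v hv
    have h1 : ⁅v, s⁆ ∈ V := by
      rw [commutatorElement_def, mul_assoc, mul_assoc, ← mul_assoc s]
      exact V.mul_mem hv (hVn.conj_mem _ (V.inv_mem hv) s)
    have h2 := hc v (hEP hv.1.1) s hs s hs
    have h3 : v * s = ⁅v, s⁆ * s * v := by rw [commutatorElement_def]; group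
    calc v * (s * s) = ⁅v, s⁆ * s * (v * s) := by rw [← mul_assoc, h3]; group
      _ = ⁅v, s⁆ * (s * ⁅v, s⁆) * s * v := by rw [h3]; group
      _ = (⁅v, s⁆ * ⁅v, s⁆) * (s * s * v) := by rw [h2]; group
      _ = s * s * v := by rw [h1.2, one_mul]
  have hZEV : ∀ x ∈ ZE, ∀ g, ⁅x, g⁆ ∈ V := by
    intro x hx g
    refine commutator_mem_of_sylow P hNP ZE V (fun a ha y hy => ?_) hx g
    refine (hVmem _).2 ⟨hcZE a (hEP ha.1) y hy, ?_⟩
    have h2 := hc a (hEP ha.1) y hy y hy
    have h3 : a * y = ⁅a, y⁆ * y * a := by rw [commutatorElement_def]; group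
    have h4 : y * y * a = a * (y * y) := ha.2 _ (hsq y hy)
    have h5 : a * (y * y) = (⁅a, y⁆ * ⁅a, y⁆) * (y * y * a) := by
      calc a * (y * y) = ⁅a, y⁆ * y * (a * y) := by rw [← mul_assoc, h3]; group
        _ = ⁅a, y⁆ * (y * ⁅a, y⁆) * y * a := by rw [h3]; group
        _ = _ := by rw [h2]; group
    rw [h4] at h5
    exact (mul_eq_right.1 h5.symm)
  -- the quotient by `E` has a normal `2`-complement
  let f := QuotientGroup.mk' E
  have hf : Function.Surjective f := QuotientGroup.mk'_surjective E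
  have hker : f.ker = E := QuotientGroup.ker_mk' E
  have hf1 : ∀ x, f x = 1 ↔ x ∈ E := fun x => QuotientGroup.eq_one_iff x
  let Pb : Sylow 2 (G ⧸ E) := P.mapSurjective hf
  have hPb : (Pb : Subgroup (G ⧸ E)) = (P : Subgroup G).map f := rfl
  have hcomap : ∀ B : Subgroup G, E ≤ B → (B.map f).comap f = B := fun B hB => by
    rw [comap_map_eq, hker, sup_eq_left.2 hB]
  have hPbc : ∀ x ∈ (Pb : Subgroup (G ⧸ E)), ∀ y ∈ (Pb : Subgroup (G ⧸ E)), x * y = y * x := by
    rintro _ ⟨x, hx, rfl⟩ _ ⟨y, hy, rfl⟩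
    rw [← commutatorElement_eq_one_iff_mul_comm, ← map_commutatorElement, hf1]
    exact (hcZE x hx y hy).1
  have hnpc : HasNormalPComplement 2 (G ⧸ E) := by
    refine Transfer.burnside_of_normalizer_le_centralizer Pb fun y hy => ?_
    obtain ⟨g, rfl⟩ := hf y
    have : g ∈ normalizer ((P : Subgroup G) : Set G) := by
      rw [← hcomap P hEP, ← comap_normalizer_eq_of_surjective _ hf]
      exact hy
    intro x hx
    exact hPbc x hx _ (mem_map_of_mem f (hNP this))
  set Kb := pResidual 2 (G ⧸ E) with hKb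
  have hKbc : Kb.IsComplement' Pb := Transfer.isComplement'_pResidual hnpc Pb
  have hKbodd : (Nat.card Kb).Coprime 2 :=
    Transfer.hasNormalPComplement_iff_coprime_pResidual.1 hnpc
  let L := Kb.comap f
  haveI hLn : L.Normal := Normal.comap inferInstance _
  have hEL : E ≤ L := fun e he => by
    rw [mem_comap, (hf1 e).2 he]; exact one_mem _
  have hLidx : E.relIndex L = Nat.card Kb := by
    have := relIndex_ker L f
    rwa [hker, map_comap_eq_self_of_surjective hf] at this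
  obtain ⟨e, he⟩ := IsPGroup.iff_card.1 (P.2.to_le hEP)
  have hcopE : (Nat.card E).Coprime (Nat.card Kb) := by
    rw [he]; exact Nat.Coprime.pow_left _ hKbodd.symm
  obtain ⟨K, hKL, hEK, -, hKc⟩ := sz_exists hEL le_normalizer_of_normal (hLidx ▸ hcopE)
  rw [hLidx] at hKc
  have hPL : ∀ x ∈ (P : Subgroup G), x ∈ L → x ∈ E := fun x hx hxL => by
    rw [← hf1]
    have : f x ∈ Kb ⊓ Pb := ⟨hxL, mem_map_of_mem f hx⟩
    rwa [hKbc.disjoint.eq_bot, mem_bot] at this
  have hKP : ∀ k ∈ K, k ∈ (P : Subgroup G) → k = 1 := fun k hk hkP => by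
    refine Transfer.eq_one_of_coprime_of_mem_isPGroup P.2 ?_ hkP
    exact Nat.Coprime.coprime_dvd_left (orderOf_dvd_natCard K hk) (hKc ▸ hKbodd)
  have hKb1 : Kb ≠ ⊥ := by
    intro h0
    apply hPtop
    have := hKbc.sup_eq_top
    rw [h0, bot_sup_eq] at this
    rw [← hcomap P hEP, ← hPb, this, comap_top]
  have hK1 : K ≠ ⊥ := fun h0 => hKb1 (card_eq_one.1 (by rw [← hKc, h0, card_bot]))
  -- index two
  have htwo : ∀ x ∈ (P : Subgroup G), ∀ y ∈ (P : Subgroup G), x ∉ E → y ∉ E → x * y ∈ E := by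
    have hcyc : IsCyclic Pb := by
      by_contra hnc
      obtain ⟨a, ha, ha1, hne⟩ := exists_inf_centralizer_ne_bot (A := (Pb : Subgroup (G ⧸ E)))
        (G := Kb) ⟨⟨fun x y => Subtype.ext (hPbc _ x.2 _ y.2)⟩⟩ hnc le_normalizer_of_normal
        (by
          obtain ⟨m, hm⟩ := IsPGroup.iff_card.1 Pb.2
          rw [hm]; exact Nat.Coprime.pow_left _ hKbodd.symm) hKb1
      obtain ⟨t, ht, rfl⟩ := ha
      apply hne
      rw [eq_bot_iff]
      rintro y ⟨hy1, hy2⟩
      obtain ⟨k, rfl⟩ := hf y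
      have hB : E < (zpowers (f t)).comap f := by
        refine lt_of_le_of_ne (fun e he => ?_) (fun h0 => ha1 ?_)
        · rw [mem_comap, (hf1 e).2 he]; exact one_mem _
        · rw [hf1, h0, mem_comap]; exact mem_zpowers _
      have hB2 : (zpowers (f t)).comap f ≤ P := by
        rw [← hcomap P hEP]
        exact comap_mono (zpowers_le.2 (mem_map_of_mem f ht))
      have : k ∈ (P : Subgroup G) := by
        refine hmax _ hB hB2 ?_
        rw [← comap_normalizer_eq_of_surjective _ hf, mem_comap]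
        refine centralizer_le_normalizer _ ?_
        rintro _ ⟨n, rfl⟩
        exact (Commute.zpow_left (mem_centralizer_singleton_iff.1 hy2).symm n).eq
      rw [mem_bot, hf1]
      exact hPL k this hy1
    obtain ⟨⟨_, s, hs, rfl⟩, hgen⟩ := hcyc.exists_generator
    have hs2 : f s * f s = 1 := by rw [← map_mul, hf1]; exact hsq s hs
    have key : ∀ x ∈ (P : Subgroup G), x ∉ E → f x = f s := by
      intro x hx hxE
      obtain ⟨n, hn⟩ := hgen ⟨f x, mem_map_of_mem f hx⟩
      have hn' : f s ^ n = f x := congrArg Subtype.val hn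
      have h2 : f s ^ (2 : ℤ) = 1 := by rw [zpow_two, hs2]
      rcases Int.emod_two_eq_zero_or_one n with h0 | h0
      · exfalso
        apply hxE
        rw [← hf1, ← hn', ← Int.mul_ediv_add_emod n 2, h0, add_zero, zpow_mul,
          h2, one_zpow]
      · rw [← hn', ← Int.mul_ediv_add_emod n 2, h0, zpow_add, zpow_mul, h2, one_zpow, one_mul,
          zpow_one]
    intro x hx y hy hxE hyE
    rw [← hf1, map_mul, key x hx hxE, key y hy hyE, hs2]
  -- the subgroup `U`
  have hKZE : (Nat.card K).Coprime (Nat.card ZE) :=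
    Nat.Coprime.coprime_dvd_right (card_dvd_of_le inf_le_left) (hKc ▸ hcopE.symm)
  have hZEc : IsMulCommutative ZE := ⟨⟨fun x y => Subtype.ext (y.2.2 x x.2.1)⟩⟩
  let U := ⁅ZE, L⁆
  haveI hUn : U.Normal := inferInstance
  have hUV : U ≤ V := commutator_le.2 fun x hx g _ => hZEV x hx g
  have hUK : U ≤ ⁅ZE, K⁆ := by
    refine commutator_le.2 fun z hz l hl => ?_
    rw [← hEK] at hl
    obtain ⟨e, he, k, hk, rfl⟩ := (mem_sup_of_le_normalizer le_normalizer_of_normal).1 hl
    have h1 : ⁅z, e * k⁆ = e * ⁅z, k⁆ * e⁻¹ := by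
      have := hz.2 e he
      rw [commutatorElement_def, commutatorElement_def, ← mul_assoc z, ← this]; group
    rw [h1, (hZEV z hz k).1.2 e he, mul_inv_cancel_right]
    exact commutator_mem_commutator hz hk
  have hUC : ∀ u ∈ U, (∀ k ∈ K, k * u = u * k) → u = 1 := by
    intro u hu h1
    have := centralizer_inf_commutator_eq_bot (A := K) (V := ZE) le_normalizer_of_normal hKZE hZEc
    rw [← mem_bot, ← this]
    exact ⟨⟨(hUV hu).1, h1⟩, hUK hu⟩
  have hEKU : ⁅E, K⁆ ≤ U := by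
    rw [← commutator_commutator_eq (A := K) (G := E) le_normalizer_of_normal (hKc ▸ hcopE.symm)
      (Or.inr (isSolvable_of_isPGroup (P.2.to_le hEP)))]
    exact commutator_mono (commutator_le.2 fun x hx g _ => hEG x hx g) hKL
  refine ⟨U, ⟨hEP, htwo, fun u hu => (hUV hu).1.1, fun u hu e he => ((hUV hu).1.2 e he).symm,
    fun u hu x _ => ?_, ?_, fun x hx y hy hxy => ?_, fun x hx hxx => ?_⟩, ?_⟩
  · rw [commutatorElement_def, mul_assoc, mul_assoc, ← mul_assoc x]
    exact U.mul_mem hu (hUn.conj_mem _ (U.inv_mem hu) x)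
  · by_contra hcon
    push Not at hcon
    have h1 : ∀ u ∈ U, u = 1 := fun u hu => hUC u hu fun k _ => by
      have := commutator_mem_of_sylow P hNP U ⊥ (fun a ha x hx => hcon a ha x hx) hu k
      exact (commutatorElement_eq_one_iff_mul_comm.1 this).symm
    apply hK1
    rw [eq_bot_iff]
    intro k hk
    refine hKP k hk (hC k fun z hz hz1 _ => ?_)
    exact commutatorElement_eq_one_iff_mul_comm.1 (h1 _ (commutator_mem_commutator
      (show z ∈ ZE from ⟨hZE z hz hz1, fun e he => hz1 e (hEP he)⟩) (hKL hk)))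
  · refine hUC _ hxy fun k _ => ?_
    have h1 := hEG x⁻¹ (E.inv_mem hx) k
    have h2 := hEG y⁻¹ (E.inv_mem hy) k
    have e1 : k * x * k⁻¹ = x * ⁅x⁻¹, k⁆ := by rw [commutatorElement_def]; group
    have e2 : k * y * k⁻¹ = y * ⁅y⁻¹, k⁆ := by rw [commutatorElement_def]; group
    set c := ⁅x⁻¹, k⁆
    set d := ⁅y⁻¹, k⁆
    have hcy : y * d * c⁻¹ = c⁻¹ * (y * d) := (ZE.inv_mem h1).2 _ (E.mul_mem hy h2.1)
    have hdx : x⁻¹ * d⁻¹ = d⁻¹ * x⁻¹ := (ZE.inv_mem h2).2 _ (E.inv_mem hx)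
    have : k * ⁅x, y⁆ * k⁻¹ = ⁅x, y⁆ := by
      rw [conjugate_commutatorElement, e1, e2, commutatorElement_def, commutatorElement_def]
      calc x * c * (y * d) * (x * c)⁻¹ * (y * d)⁻¹
          = x * c * (y * d * c⁻¹) * (x⁻¹ * d⁻¹) * y⁻¹ := by group
        _ = _ := by rw [hcy, hdx]; group
    rw [← mul_inv_eq_iff_eq_mul, this]
  · refine hUC _ hxx fun k hk => ?_
    have h1 := hUV (hEKU (commutator_mem_commutator (E.inv_mem hx) hk))
    have e1 : k * x * k⁻¹ = x * ⁅x⁻¹, k⁆ := by rw [commutatorElement_def]; group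
    set c := ⁅x⁻¹, k⁆
    have hcx : x * c = c * x := h1.1.2 _ hx
    have : k * (x * x) * k⁻¹ = x * x := by
      calc k * (x * x) * k⁻¹ = (k * x * k⁻¹) * (k * x * k⁻¹) := by group
        _ = x * (c * x) * c := by rw [e1]; group
        _ = x * x * (c * c) := by rw [← hcx]; group
        _ = x * x := by rw [h1.2, mul_one]
    rw [← mul_inv_eq_iff_eq_mul, this]
  · obtain ⟨⟨k, hk⟩, hk1⟩ := (ne_bot_iff_exists_ne_one).1 hK1
    exact ⟨k, fun hkP => hk1 (Subtype.ext (hKP k hk hkP)),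
      fun x hx => hEKU (commutator_mem_commutator hx hk)⟩

theorem map_eq_of_forall_mem [Finite G] {X : Subgroup G} (α : MulAut G) (h : ∀ x ∈ X, α x ∈ X) :
    X.map α.toMonoidHom = X :=
  eq_of_le_of_card_ge (by rintro _ ⟨x, hx, rfl⟩; exact h x hx)
    (card_map_of_injective α.injective).ge

/-- Let `P ≠ 1` be a Sylow `2`-subgroup of class at most two, invariant under a group `A` of
automorphisms of odd order.  If `N(X) ≤ P` for all nontrivial `A`-invariant normal subgroups `X` of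
`P`, then `N(X) ≤ P` whenever `Z(P) ≤ X ≤ P`. -/
theorem normalizer_le_of_center_le [Finite G] {A : Type*} [Group A] [Finite A]
    (φ : A →* MulAut G) (hA : Odd (Nat.card A)) (P : Sylow 2 G) (hP1 : (P : Subgroup G) ≠ ⊥)
    (hinv : ∀ a, ∀ x ∈ (P : Subgroup G), φ a x ∈ (P : Subgroup G))
    (hc : ⁅⁅(P : Subgroup G), (P : Subgroup G)⁆, (P : Subgroup G)⁆ = ⊥)
    (h : ∀ X : Subgroup G, X ≤ P → X ≠ ⊥ → (∀ a, ∀ x ∈ X, φ a x ∈ X) →
      (P : Subgroup G) ≤ normalizer (X : Set G) → normalizer (X : Set G) ≤ P)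
    {X : Subgroup G} (hZX : (P : Subgroup G) ⊓ centralizer ((P : Subgroup G) : Set G) ≤ X)
    (hXP : X ≤ P) : normalizer (X : Set G) ≤ P := by
  by_contra hcon
  set Z := (P : Subgroup G) ⊓ centralizer ((P : Subgroup G) : Set G) with hZ
  obtain ⟨E, -, ⟨hZE, hEP, hNE⟩, hE⟩ := Core.exists_maximal_ge
    (P := fun Y : Subgroup G => Z ≤ Y ∧ Y ≤ P ∧ ¬ normalizer (Y : Set G) ≤ P) ⟨hZX, hXP, hcon⟩
  have hPZ : ⁅(P : Subgroup G), (P : Subgroup G)⁆ ≤ Z :=
    le_inf (commutator_le_self _) (commutator_eq_bot_iff_le_centralizer.mp hc)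
  have hPH : (P : Subgroup G) ≤ normalizer (E : Set G) :=
    le_normalizer_iff_commutator_le_left.mpr ((commutator_mono hEP le_rfl).trans (hPZ.trans hZE))
  set H := normalizer (E : Set G) with hH
  have hEH : E ≤ H := hEP.trans hPH
  let P' : Sylow 2 H := P.subtype hPH
  have hP' : (P' : Subgroup H) = (P : Subgroup G).subgroupOf H := rfl
  have hP'm : (P' : Subgroup H).map H.subtype = P := by
    rw [hP', subgroupOf_map_subtype, inf_eq_left.2 hPH]
  have hE'm : (E.subgroupOf H).map H.subtype = E := by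
    rw [subgroupOf_map_subtype, inf_eq_left.2 hEH]
  have hnorm : ∀ B : Subgroup H, normalizer ((B.map H.subtype : Subgroup G) : Set G) ≤ P →
      normalizer (B : Set H) ≤ P' := fun B hB n hn =>
    hB (le_normalizer_map H.subtype (mem_map_of_mem _ hn))
  -- the elements of order at most two of `Z`
  let O : Subgroup G :=
    { carrier := {v | v ∈ Z ∧ v * v = 1}
      mul_mem' := by
        rintro a b ⟨ha, ha2⟩ ⟨hb, hb2⟩
        refine ⟨Z.mul_mem ha hb, ?_⟩
        have : a * b = b * a := hb.2 a ha.1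
        calc a * b * (a * b) = a * (b * a) * b := by group
          _ = (a * a) * (b * b) := by rw [← this]; group
          _ = 1 := by rw [ha2, hb2, one_mul]
      one_mem' := ⟨Z.one_mem, one_mul 1⟩
      inv_mem' := by
        rintro a ⟨ha, ha2⟩
        refine ⟨Z.inv_mem ha, ?_⟩
        rw [← mul_inv_rev, ha2, inv_one] }
  have hO : normalizer (O : Set G) ≤ P := by
    refine h O (fun x hx => hx.1.1) ?_ (fun a x hx => ⟨⟨hinv a x hx.1.1, fun y hy => ?_⟩, ?_⟩)
      (fun y hy => centralizer_le_normalizer _ fun x hx => (hx.1.2 y hy).symm)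
    · have hZ1 : Z ≠ ⊥ := Transfer.inf_centralizer_self_ne_bot P.2 hP1
      obtain ⟨m, hm⟩ := IsPGroup.iff_card.1 (P.2.to_le (inf_le_left : Z ≤ P))
      have h2 : 2 ∣ Nat.card Z := by
        rw [hm]
        refine dvd_pow_self 2 fun h0 => hZ1 ?_
        rw [h0, pow_zero] at hm
        exact card_eq_one.1 hm
      obtain ⟨x, hx⟩ := exists_prime_orderOf_dvd_card' 2 h2
      intro h0
      have : (x : G) ∈ O := ⟨x.2, by
        rw [← pow_two, ← Subgroup.coe_pow, ← hx, pow_orderOf_eq_one, Subgroup.coe_one]⟩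
      rw [h0, mem_bot, OneMemClass.coe_eq_one] at this
      rw [this, orderOf_one] at hx
      omega
    · have := hx.1.2 _ (hinv a⁻¹ y hy)
      have e := congrArg (φ a) this
      rwa [map_mul, map_mul, ← MulAut.mul_apply, ← map_mul, mul_inv_cancel, map_one,
        MulAut.one_apply] at e
    · rw [← map_mul, hx.2, map_one]
  haveI : (E.subgroupOf H).Normal := normal_subgroupOf_of_le_normalizer le_rfl
  obtain ⟨U', hU', k, hkP, hk⟩ := exists_cfg_of_normal P' (E.subgroupOf H)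
    (fun x hx => hEP hx) (fun h0 => hNE fun x hx => by
      have : (⟨x, hx⟩ : H) ∈ (P' : Subgroup H) := h0 ▸ mem_top _
      exact this)
    (fun x hx y hy z hz => Subtype.ext ((hPZ (commutator_mem_commutator hx hy)).2 _ hz))
    (fun z hz hz1 => hZE ⟨hz, fun x hx => congrArg Subtype.val (hz1 ⟨x, hPH hx⟩ hx)⟩)
    (hnorm _ (by rw [hP'm]; exact h P le_rfl hP1 hinv le_normalizer))
    (fun B hB1 hB2 => hnorm B (by
      by_contra hn
      have h1 : E ≤ B.map H.subtype := hE'm ▸ map_mono hB1.le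
      have h2 := (hE _ ⟨hZE.trans h1, hP'm ▸ map_mono hB2, hn⟩ h1).le
      exact hB1.not_ge fun x hx => h2 (mem_map_of_mem _ hx)))
    (fun g hg => hO (centralizer_le_normalizer _ fun z hz => congrArg Subtype.val
      (hg ⟨z, hPH hz.1.1⟩ hz.1.1 (fun x hx => Subtype.ext (hz.1.2 x hx)) (Subtype.ext hz.2))))
  have hU := hU'.map H.subtype H.subtype_injective
  rw [hP'm, hE'm] at hU
  set U := U'.map H.subtype with hUdef
  have hPa : ∀ a, (P : Subgroup G).map (φ a).toMonoidHom = P := fun a =>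
    map_eq_of_forall_mem _ (hinv a)
  let W : Subgroup G := ⨆ a, U.map (φ a).toMonoidHom
  have hUW : U ≤ W := fun u hu => by
    refine le_iSup (fun a => U.map (φ a).toMonoidHom) 1 ⟨u, hu, ?_⟩
    simp
  have hWE : W ≤ E := iSup_le fun a => hU.map_le (φ a)
    (hA.of_dvd_nat ((orderOf_map_dvd φ a).trans (orderOf_dvd_natCard a))) (hPa a)
  have hW : normalizer (W : Set G) ≤ P := by
    refine h W (hWE.trans hEP) (fun h0 => ?_) (fun b => ?_) (fun y hy => ?_)
    · obtain ⟨u, hu, x, -, hne⟩ := hU.nc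
      have : u = 1 := by rw [← mem_bot, ← h0]; exact hUW hu
      exact hne (by rw [this, commutatorElement_one_left])
    · have : W ≤ W.comap (φ b).toMonoidHom := iSup_le fun a => by
        rintro _ ⟨u, hu, rfl⟩
        refine le_iSup (fun a => U.map (φ a).toMonoidHom) (b * a) ⟨u, hu, ?_⟩
        simp
      exact fun x hx => this hx
    · refine Transfer.mem_normalizer_of_conj_mem ?_
      have : W ≤ W.comap (MulAut.conj y).toMonoidHom := iSup_le fun a => by
        intro u hu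
        have h1 := hU.map (φ a).toMonoidHom (φ a).injective
        rw [hPa] at h1
        refine le_iSup (fun a => U.map (φ a).toMonoidHom) a ?_
        have h2 := mul_mem hu (h1.norm _ (inv_mem hu) y hy)
        change y * u * y⁻¹ ∈ _
        convert h2 using 1
        rw [commutatorElement_def]; group
      exact fun x hx => this hx
  refine hkP (hW (Transfer.mem_normalizer_of_conj_mem fun w hw => ?_))
  have h1 : ⁅w⁻¹, (k : G)⁆ ∈ U :=
    mem_map_of_mem H.subtype (hk ⟨w⁻¹, hEH (hWE (W.inv_mem hw))⟩ (hWE (W.inv_mem hw)))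
  change (k : G) * w * (k : G)⁻¹ ∈ W
  convert W.mul_mem hw (hUW h1) using 1
  rw [commutatorElement_def]; group

end Cfsg.Agent.Coprime
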