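import Mathlib
import Cfsg.Agent.Lib.Coprime.ClassTwoCfg
import Cfsg.Agent.Lib.Coprime.Semidirect
import Cfsg.Agent.Lib.Coprime.FTHyp

/-!
# Nilpotent maximal invariant subgroups under a coprime action
-/

set_option autoImplicit false
set_option linter.unusedSectionVars false

namespace Cfsg.Agent.Coprime

open Subgroup
open scoped commutatorElement Pointwise

universe u v

section Inv

variable {G : Type*} [Group G] [Finite G] {A : Type*} [Group A] (φ : A →* MulAut G)

/-- `H` is invariant under the action `φ`. -/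
abbrev Inv (H : Subgroup G) : Prop := ∀ a, ∀ h ∈ H, φ a h ∈ H

variable {φ}

theorem Inv.map_eq {H : Subgroup G} (h : Inv φ H) (a : A) : H.map (φ a).toMonoidHom = H :=
  map_eq_of_forall_mem _ (h a)

theorem inv_of_map_eq {H : Subgroup G} (h : ∀ a, H.map (φ a).toMonoidHom = H) : Inv φ H :=
  fun a x hx => h a ▸ mem_map_of_mem (φ a).toMonoidHom hx

theorem Inv.invBy {H : Subgroup G} (h : Inv φ H) : InvBy φ ⊤ H := fun a _ => h a

theorem InvBy.inv {H : Subgroup G} (h : InvBy φ ⊤ H) : Inv φ H := fun a => h a (mem_top a)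

theorem Inv.normalizer {H : Subgroup G} (h : Inv φ H) : Inv φ (normalizer (H : Set G)) := by
  intro a x hx
  have := le_normalizer_map (H := H) (φ a).toMonoidHom (mem_map_of_mem _ hx)
  rwa [h.map_eq] at this

theorem Inv.centralizer {H : Subgroup G} (h : Inv φ H) : Inv φ (centralizer (H : Set G)) := by
  intro a x hx y hy
  have e := congrArg (φ a) (hx _ (h a⁻¹ y hy))
  rwa [map_mul, map_mul, ← MulAut.mul_apply, ← map_mul, mul_inv_cancel, map_one,
    MulAut.one_apply] at e

theorem Inv.inf {H K : Subgroup G} (h : Inv φ H) (k : Inv φ K) : Inv φ (H ⊓ K) :=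
  fun a x hx => ⟨h a x hx.1, k a x hx.2⟩

theorem Inv.sup {H K : Subgroup G} (h : Inv φ H) (k : Inv φ K) : Inv φ (H ⊔ K) :=
  inv_of_map_eq fun a => by rw [Subgroup.map_sup, h.map_eq, k.map_eq]

theorem Inv.commutator {H K : Subgroup G} (h : Inv φ H) (k : Inv φ K) : Inv φ ⁅H, K⁆ :=
  inv_of_map_eq fun a => by rw [map_commutator, h.map_eq, k.map_eq]

theorem inv_top : Inv φ (⊤ : Subgroup G) := fun _ _ _ => mem_top _

theorem inv_bot : Inv φ (⊥ : Subgroup G) := fun a x hx => by
  rw [mem_bot] at hx ⊢; rw [hx, map_one]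

theorem inv_of_characteristic (H : Subgroup G) [hH : H.Characteristic] : Inv φ H :=
  inv_of_map_eq fun a => characteristic_iff_map_eq.1 hH (φ a)

theorem Inv.normalCore {H : Subgroup G} (h : Inv φ H) : Inv φ H.normalCore := by
  intro a x hx g
  have := h a _ (hx (φ a⁻¹ g))
  have e : φ a (φ a⁻¹ g) = g := by
    rw [← MulAut.mul_apply, ← map_mul, mul_inv_cancel, map_one, MulAut.one_apply]
  rwa [map_mul, map_mul, map_inv (φ a), e] at this

theorem Inv.of_isSylowIn {p : ℕ} [Fact p.Prime] {M P : Subgroup G} (h : Inv φ M)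
    (hP : Transfer.IsSylowIn p P M) (hn : M ≤ Subgroup.normalizer (P : Set G)) : Inv φ P := by
  intro a x hx
  have h1 : P.map (φ a).toMonoidHom ≤ M := h.map_eq a ▸ map_mono hP.le
  exact IsSylowIn.le_of_le_normalizer' (p := p) ⟨hP.le, hP.isPGroup, hP.not_dvd⟩ h1
    (hP.isPGroup.map _) (h1.trans hn) (mem_map_of_mem _ hx)

theorem Inv.thompsonSubgroupOf {p : ℕ} {P : Subgroup G} (h : Inv φ P) :
    Inv φ (thompsonSubgroupOf p P) :=
  inv_of_map_eq fun a => by
    rw [Transfer.map_thompsonSubgroupOf_of_injective _ (φ a).injective, h.map_eq]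

theorem Inv.map_mk {N : Subgroup G} [N.Normal] (hN : Inv φ N) {H : Subgroup G} (h : Inv φ H) :
    Inv (quotAutHom φ N hN) (H.map (QuotientGroup.mk' N)) := by
  rintro a _ ⟨x, hx, rfl⟩
  exact ⟨φ a x, h a x hx, rfl⟩

theorem Inv.comap_mk {N : Subgroup G} [N.Normal] (hN : Inv φ N) {H : Subgroup (G ⧸ N)}
    (h : Inv (quotAutHom φ N hN) H) : Inv φ (H.comap (QuotientGroup.mk' N)) :=
  fun a x hx => h a _ hx

variable {p : ℕ} [hp : Fact p.Prime] {M P : Subgroup G}

theorem exists_sylow_eq_of_normalizer_eq (hP : Transfer.IsSylowIn p P M)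
    (hNP : normalizer (P : Set G) = M) : ∃ S : Sylow p G, (S : Subgroup G) = P := by
  obtain ⟨S, hS⟩ := hP.isPGroup.exists_le_sylow
  refine ⟨S, ?_⟩
  by_contra hne
  have h1 := Transfer.lt_inf_normalizer_of_lt S.2 (lt_of_le_of_ne hS (Ne.symm hne))
  exact h1.ne (hP.eq_of_le S.2.to_inf_left h1.le (hNP ▸ inf_le_right)).symm

theorem hasNormalPComplement_of_inv_of_odd (hp2 : p ≠ 2) (hM : Inv φ M)
    (hnil : Group.IsNilpotent M)
    (hnorm : ∀ X : Subgroup G, X ≤ M → X ≠ ⊥ → Inv φ X → M ≤ normalizer (X : Set G) →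
      normalizer (X : Set G) = M)
    (hP : Transfer.IsSylowIn p P M) (hPb : P ≠ ⊥) : HasNormalPComplement p G := by
  have hMP := hP.le_normalizer_of_isNilpotent hnil
  have hPi := hM.of_isSylowIn hP hMP
  obtain ⟨S, rfl⟩ := exists_sylow_eq_of_normalizer_eq hP (hnorm P hP.le hPb hPi hMP)
  have hMc := Transfer.hasNormalPComplement_of_isNilpotent (p := p) hnil
  refine Transfer.thompson_normal_p_complement hp2 S ?_ ?_
  · refine Transfer.hasNormalPComplement_of_le ?_ hMc
    rw [← hnorm _ (inf_le_left.trans hP.le) (Transfer.inf_centralizer_self_ne_bot S.2 hPb)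
      (hPi.inf hPi.centralizer)
      (hMP.trans (Transfer.normalizer_le_normalizer_inf_centralizer_self _))]
    exact centralizer_le_normalizer _
  · rw [hnorm _ ((Transfer.thompsonSubgroupOf_le _).trans hP.le)
      (Transfer.thompsonSubgroupOf_ne_bot S.2 hPb) hPi.thompsonSubgroupOf
      (hMP.trans (Transfer.normalizer_le_normalizer_thompsonSubgroupOf _))]
    exact hMc

theorem hasNormalPComplement_of_inv_two [Finite A] (hA : Odd (Nat.card A)) (hM : Inv φ M)
    (hnil : Group.IsNilpotent M)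
    (hnorm : ∀ X : Subgroup G, X ≤ M → X ≠ ⊥ → Inv φ X → M ≤ normalizer (X : Set G) →
      normalizer (X : Set G) = M)
    (hP : Transfer.IsSylowIn 2 P M) (hPb : P ≠ ⊥) (h : ⁅⁅P, P⁆, P⁆ = ⊥) :
    HasNormalPComplement 2 G := by
  have hMP := hP.le_normalizer_of_isNilpotent hnil
  have hPi := hM.of_isSylowIn hP hMP
  have hNP := hnorm P hP.le hPb hPi hMP
  obtain ⟨S, rfl⟩ := exists_sylow_eq_of_normalizer_eq hP hNP
  set Z := (S : Subgroup G) ⊓ centralizer ((S : Subgroup G) : Set G) with hZ
  have hZb : Z ≠ ⊥ := Transfer.inf_centralizer_self_ne_bot S.2 hPb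
  have hNZ : normalizer (Z : Set G) = M := hnorm Z (inf_le_left.trans hP.le) hZb
    (hPi.inf hPi.centralizer)
    (hMP.trans (Transfer.normalizer_le_normalizer_inf_centralizer_self _))
  have hPZ : ⁅(S : Subgroup G), (S : Subgroup G)⁆ ≤ Z :=
    le_inf (commutator_le_self _) (commutator_eq_bot_iff_le_centralizer.mp h)
  have hwc : ∀ g : G, MulAut.conj g • Z ≤ S → MulAut.conj g • Z = Z := by
    intro g hg
    rw [Transfer.conj_smul_eq_iff_mem_normalizer, hNZ]
    by_cases hMS : M ≤ S
    · have hMS' : M = S := le_antisymm hMS hP.le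
      have hN : ∀ D : Subgroup G, Z ≤ D → D ≤ S → normalizer (D : Set G) = S := fun D h1 h2 =>
        le_antisymm (normalizer_le_of_center_le φ hA S hPb hPi h (fun X hX hX1 hXi hXn =>
          (hnorm X (hX.trans hP.le) hX1 hXi (hMS.trans hXn)).le.trans hMS) h1 h2)
          (le_normalizer_iff_commutator_le_left.mpr
            ((commutator_mono h2 le_rfl).trans (hPZ.trans h1)))
      set D := Z ⊔ MulAut.conj g • Z with hD
      have hDS : D ≤ S := sup_le inf_le_left hg
      have h1 := hN D le_sup_left hDS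
      have h2 : MulAut.conj g⁻¹ • D ≤ S := by
        rw [← hMS', ← hNZ, ← Transfer.conj_inv_smul_conj_smul g (normalizer (Z : Set G)),
          ← Transfer.normalizer_conj_smul]
        refine Transfer.conj_smul_mono _ (sup_le ?_ le_normalizer)
        exact (inf_le_right.trans (centralizer_le hg)).trans (centralizer_le_normalizer _)
      have h3 : Z ≤ MulAut.conj g⁻¹ • D := by
        conv_lhs => rw [← Transfer.conj_inv_smul_conj_smul g Z]
        exact Transfer.conj_smul_mono _ le_sup_right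
      have h4 := hN _ h3 h2
      rwa [Transfer.normalizer_conj_smul, h1, Transfer.conj_smul_eq_iff_mem_normalizer,
        inv_mem_iff, hNP] at h4
    · -- an odd prime `r` divides `|M|`
      have hidx : (S : Subgroup G).relIndex M ≠ 1 := fun h1 => hMS (relIndex_eq_one.1 h1)
      obtain ⟨r, hr, hrd⟩ := Nat.exists_prime_and_dvd hidx
      haveI := Fact.mk hr
      have hr2 : r ≠ 2 := fun h0 => hP.not_dvd (h0 ▸ hrd)
      obtain ⟨R, hR⟩ := Transfer.exists_isSylowIn (p := r) M
      have hRb : R ≠ ⊥ := hR.ne_bot (hrd.trans (relIndex_dvd_card _ _))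
      have hMR := hR.le_normalizer_of_isNilpotent hnil
      have hNR := hnorm R hR.le hRb (hM.of_isSylowIn hR hMR) hMR
      have hRS : R ≤ centralizer ((S : Subgroup G) : Set G) := fun x hx =>
        Transfer.mem_centralizer_of_isNilpotent hnil S.2 hP.le (hR.le hx) (by
          obtain ⟨k, hk⟩ := IsPGroup.iff_card.1 hR.isPGroup
          refine Nat.Coprime.coprime_dvd_left (orderOf_dvd_natCard R hx) ?_
          rw [hk]
          exact Nat.Coprime.pow_left _ ((Nat.coprime_primes hr Nat.prime_two).2 hr2))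
      have h1 : MulAut.conj g⁻¹ • R ≤ M := by
        rw [← hNZ, ← Transfer.conj_inv_smul_conj_smul g (normalizer (Z : Set G)),
          ← Transfer.normalizer_conj_smul]
        exact Transfer.conj_smul_mono _
          ((hRS.trans (centralizer_le hg)).trans (centralizer_le_normalizer _))
      have h2 : MulAut.conj g⁻¹ • R ≤ R :=
        IsSylowIn.le_of_le_normalizer' (p := r) ⟨hR.le, hR.isPGroup, hR.not_dvd⟩ h1
          (Transfer.isPGroup_conj_smul _ hR.isPGroup) (h1.trans hMR)
      have h3 := eq_of_le_of_card_ge h2 (Transfer.card_conj_smul _ _).ge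
      rwa [Transfer.conj_smul_eq_iff_mem_normalizer, inv_mem_iff, hNR] at h3
  apply Transfer.hasNormalPComplement_of_controls_fusion S
  intro x hx g hgx
  obtain ⟨n, hn, he⟩ := Transfer.exists_mem_normalizer_conj_eq_of_weaklyClosed S inf_le_left hwc
    (le_centralizer_iff.mp inf_le_right hx) (le_centralizer_iff.mp inf_le_right hgx)
  obtain ⟨u, hu, c, hc, rfl⟩ := hP.exists_mul_centralizer_of_isNilpotent hnil (hNZ ▸ hn)
  refine ⟨u, hu, ?_⟩
  rw [he]
  calc u * c * x * (u * c)⁻¹ = u * (c * x) * c⁻¹ * u⁻¹ := by group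
    _ = _ := by rw [← hc x hx]; group

/-- A Sylow subgroup of a normal invariant subgroup `K` normalized by the invariant subgroup `M` of
order coprime to `|K|` and invariant under the action. -/
theorem FT.exists_inv_sylow (ft : FT.{u}) [Finite A] {K M : Subgroup G} (q : ℕ) [Fact q.Prime]
    (hK : Inv φ K) (hM : Inv φ M) (hMK : M ≤ normalizer (K : Set G))
    (h1 : (Nat.card A).Coprime (Nat.card K)) (h2 : (Nat.card M).Coprime (Nat.card K)) :
    ∃ Q, IsSylowIn q Q K ∧ Inv φ Q ∧ M ≤ normalizer (Q : Set G) := by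
  let A' : Subgroup (G ⋊[φ] A) := (⊤ : Subgroup A).map SemidirectProduct.inr
  let M' : Subgroup (G ⋊[φ] A) := M.map SemidirectProduct.inl
  let K' : Subgroup (G ⋊[φ] A) := K.map SemidirectProduct.inl
  have hAM : A' ≤ normalizer (M' : Set _) := (map_inr_le_normalizer_iff φ).2 hM.invBy
  have hAK : A' ≤ normalizer (K' : Set _) := (map_inr_le_normalizer_iff φ).2 hK.invBy
  have hMK' : M' ≤ normalizer (K' : Set _) := (map_mono hMK).trans (le_normalizer_map _)
  have hcop : (Nat.card ↥(A' ⊔ M')).Coprime (Nat.card K') := by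
    refine Nat.Coprime.coprime_dvd_left (Core.card_sup_dvd_of_le_normalizer hAM) ?_
    rw [card_map_inr, card_map_inl, card_map_inl, card_top]
    exact Nat.Coprime.mul_left h1 h2
  obtain ⟨Q', hQ', hn⟩ := exists_invariant_sylow q (sup_le hAK hMK') hcop (ft.solvable_or hcop)
  obtain ⟨Q, hQK, rfl⟩ := exists_map_inl_eq φ hQ'.1
  refine ⟨Q, (isSylowIn_map_iff_of_injective SemidirectProduct.inl_injective).1 hQ',
    ((map_inr_le_normalizer_iff φ).1 (le_sup_left.trans hn)).inv, fun m hm => ?_⟩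
  have := (le_sup_right.trans hn) (mem_map_of_mem _ hm)
  refine Transfer.mem_normalizer_of_conj_mem fun x hx => ?_
  have h3 := (mem_normalizer_iff.1 this _).1 (mem_map_of_mem SemidirectProduct.inl hx)
  rwa [← map_inv, ← map_mul, ← map_mul, mem_map_iff_mem SemidirectProduct.inl_injective] at h3

end Inv

theorem FT.isSolvable_of_hasNormalPComplement_two (ft : FT.{u}) {G : Type*} [Group G] [Finite G]
    (h : HasNormalPComplement 2 G) : Group.IsSolvable G := by
  obtain ⟨N, hN, h1, h2⟩ := Transfer.hasNormalPComplement_iff_exists_normal.1 h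
  exact (Group.isSolvable_iff_subgroup_quotient N).mpr
    ⟨ft.solvable (Nat.coprime_two_right.1 h1), isSolvable_of_isPGroup h2⟩

theorem FT.invNilpMax_aux (ft : FT.{u}) {A : Type*} [Group A] [Finite A] (G : Type v) [Group G]
    [Finite G] : ∀ (φ : A →* MulAut G) (M : Subgroup G), (Nat.card A).Coprime (Nat.card G) →
      M ≠ ⊤ → Inv φ M → (∀ H : Subgroup G, M ≤ H → H ≠ ⊤ → Inv φ H → H = M) →
      Group.IsNilpotent M → (∃ P, Transfer.IsSylowIn 2 P M ∧ ⁅⁅P, P⁆, P⁆ = ⊥) →
      Group.IsSolvable G := by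
  refine Core.induction_on_card (P := fun G _ _ => ∀ (φ : A →* MulAut G) (M : Subgroup G),
    (Nat.card A).Coprime (Nat.card G) →
      M ≠ ⊤ → Inv φ M → (∀ H : Subgroup G, M ≤ H → H ≠ ⊤ → Inv φ H → H = M) →
      Group.IsNilpotent M → (∃ P, Transfer.IsSylowIn 2 P M ∧ ⁅⁅P, P⁆, P⁆ = ⊥) →
      Group.IsSolvable G) ?_ G
  intro G _ _ ih φ M hcop hMt hM hmax hnil ⟨P, hP, hPc⟩
  by_cases hcore : M.normalCore = ⊥
  swap
  · set N := M.normalCore with hNdef
    have hNM : N ≤ M := normalCore_le M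
    have hcm : (M.map (QuotientGroup.mk' N)).comap (QuotientGroup.mk' N) = M := by
      rw [comap_map_eq, QuotientGroup.ker_mk', sup_eq_left.mpr hNM]
    have hs := QuotientGroup.mk'_surjective N
    have h1 := ih (G ⧸ N) (Core.card_quotient_lt hcore) (quotAutHom φ N hM.normalCore)
      (M.map (QuotientGroup.mk' N))
      (Nat.Coprime.coprime_dvd_right (card_quotient_dvd_card N) hcop)
      (fun h => hMt (by rw [← hcm, h, comap_top])) (hM.normalCore.map_mk hM)
      (fun H h1 h2 h3 => by
        rw [← map_comap_eq_self_of_surjective hs H, hmax _ (map_le_iff_le_comap.1 h1)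
          (fun h => h2 (by rw [← map_comap_eq_self_of_surjective hs H, h,
            map_top_of_surjective _ hs])) (hM.normalCore.comap_mk h3)])
      (Core.isNilpotent_map hnil _) ⟨_, hP.map _, by
        rw [← map_commutator, ← map_commutator, hPc, Subgroup.map_bot]⟩
    have := Core.isNilpotent_of_le hnil hNM
    exact (Group.isSolvable_iff_subgroup_quotient N).mpr ⟨inferInstance, h1⟩
  have hcore' : ∀ N : Subgroup G, N.Normal → N ≤ M → N = ⊥ := fun N hN h =>
    le_bot_iff.1 (hcore ▸ normal_le_normalCore.2 h)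
  have hnorm : ∀ X : Subgroup G, X ≤ M → X ≠ ⊥ → Inv φ X → M ≤ normalizer (X : Set G) →
      normalizer (X : Set G) = M := fun X hX hXb hXi hn =>
    hmax _ hn (fun h => hXb (hcore' X (normalizer_eq_top_iff.1 h) hX)) hXi.normalizer
  by_cases h2 : 2 ∣ Nat.card M
  · refine ft.isSolvable_of_hasNormalPComplement_two
      (hasNormalPComplement_of_inv_two ?_ hM hnil hnorm hP (hP.ne_bot h2) hPc)
    exact Nat.coprime_two_right.1
      (Nat.Coprime.coprime_dvd_right (h2.trans (card_subgroup_dvd_card M)) hcop)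
  have hnpc : ∀ (q : ℕ) (_ : Fact q.Prime), q ∣ Nat.card M → HasNormalPComplement q G := by
    intro q hq hqd
    obtain ⟨Q, hQ⟩ := Transfer.exists_isSylowIn (p := q) M
    exact hasNormalPComplement_of_inv_of_odd (fun h => h2 (h ▸ hqd)) hM hnil hnorm hQ
      (hQ.ne_bot hqd)
  let K : Subgroup G := ⨅ r : {r : ℕ // r.Prime ∧ r ∣ Nat.card M}, pResidual r G
  have hK : K.Normal := Subgroup.normal_iInf_normal fun r => Transfer.pResidual_normal _ _
  have hKi : Inv φ K := fun a x hx => mem_iInf.2 fun r =>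
    inv_of_characteristic (pResidual r G) a x (mem_iInf.1 hx r)
  by_cases hKb : K = ⊥
  · have : Group.IsNilpotent G := by
      refine Transfer.isNilpotent_of_forall_hasNormalPComplement fun q hq hqG => hnpc q hq ?_
      by_contra hqM
      obtain ⟨x, hx⟩ := exists_prime_orderOf_dvd_card' q hqG
      have : x ∈ K := mem_iInf.mpr fun r => Transfer.mem_pResidual_of_coprime (by
        rw [hx]
        exact (Nat.coprime_primes hq.out r.2.1).mpr fun h => hqM (h ▸ r.2.2))
      rw [hKb, mem_bot] at this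
      rw [this, orderOf_one] at hx
      exact hq.out.ne_one hx.symm
    infer_instance
  have hKM : (Nat.card M).Coprime (Nat.card K) := by
    refine Nat.coprime_of_dvd fun q hq hqM hqK => ?_
    haveI := Fact.mk hq
    exact Transfer.hasNormalPComplement_iff_not_dvd_pResidual.mp (hnpc q this hqM)
      (hqK.trans (card_dvd_of_le
        (iInf_le (fun r : {r : ℕ // r.Prime ∧ r ∣ Nat.card M} => pResidual r G) ⟨q, hq, hqM⟩)))
  obtain ⟨q, hq, hqd⟩ := Core.exists_prime_dvd_card_of_ne_bot hKb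
  haveI := Fact.mk hq
  obtain ⟨Q, hQ, hQi, hMQ⟩ := ft.exists_inv_sylow q hKi hM le_normalizer_of_normal
    (Nat.Coprime.coprime_dvd_right (card_subgroup_dvd_card K) hcop) hKM
  have htop : M ⊔ Q = ⊤ := by
    by_contra hne
    have h1 : Q ≤ M := hmax _ le_sup_left hne (hM.sup hQi) ▸ le_sup_right
    have h3 : Q = ⊥ := le_bot_iff.1 (inf_eq_bot_of_coprime' hKM ▸ le_inf h1 hQ.1)
    have h4 := hQ.2.2
    rw [h3, relIndex_bot_left] at h4
    exact h4 hqd
  rw [← Core.isSolvable_top_iff, ← htop]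
  exact Core.isSolvable_sup_of_le_normalizer hMQ inferInstance (isSolvable_of_isPGroup hQ.2.1)

/-- A finite group with a coprime action and a nilpotent maximal invariant subgroup whose Sylow
`2`-subgroups have class at most two is solvable. -/
theorem FT.isSolvable_of_inv_max_nilpotent (ft : FT.{u}) {G A : Type*} [Group G] [Finite G]
    [Group A] [Finite A] (φ : A →* MulAut G) (hcop : (Nat.card A).Coprime (Nat.card G))
    (M : Subgroup G) (hMtop : M ≠ ⊤) (hMinv : ∀ a : A, ∀ m : G, m ∈ M → φ a m ∈ M)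
    (hMmax : ∀ H : Subgroup G, M ≤ H → H ≠ ⊤ → (∀ a : A, ∀ h : G, h ∈ H → φ a h ∈ H) → H = M)
    (hnil : Group.IsNilpotent M)
    (h2 : ∀ S : Sylow 2 ↥M, Group.nilpotencyClass ↥(S : Subgroup ↥M) ≤ 2) :
    Group.IsSolvable G := by
  obtain ⟨S⟩ : Nonempty (Sylow 2 M) := inferInstance
  refine ft.invNilpMax_aux G φ M hcop hMtop hMinv hMmax hnil
    ⟨_, Transfer.isSylowIn_map_subtype S, ?_⟩
  haveI : Group.IsNilpotent (S : Subgroup M) := inferInstance
  have h3 : ⁅⁅(⊤ : Subgroup (S : Subgroup M)), ⊤⁆, ⊤⁆ = ⊥ :=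
    Subgroup.lowerCentralSeries_eq_bot_iff_nilpotencyClass_le.2 (h2 S)
  rw [← map_commutator, ← map_commutator]
  have h4 : ⁅⁅(S : Subgroup M), (S : Subgroup M)⁆, (S : Subgroup M)⁆ = ⊥ := by
    have := congrArg (Subgroup.map (S : Subgroup M).subtype) h3
    rwa [map_commutator, map_commutator, ← MonoidHom.range_eq_map, range_subtype,
      Subgroup.map_bot] at this
  rw [h4, Subgroup.map_bot]

end Cfsg.Agent.Coprime
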