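import Mathlib
import Cfsg.Agent.Lib.Coprime.PiSep
import Cfsg.Agent.Lib.Coprime.AxB
import Cfsg.Agent.Lib.Core.Local

/-!
# Goldschmidt's lemma `O_{q'}(C_H(z)) ≤ O_{q'}(H)` for `q`-solvable `H`
-/

set_option autoImplicit false

namespace Cfsg.Agent.Coprime

open Subgroup
open scoped commutatorElement

variable {X : Type*} [Group X] [Finite X] {q : ℕ}

/-- `O_{q'}(H)` as a subgroup of the ambient group. -/
abbrev pPrimeCoreOf {X : Type*} [Group X] (q : ℕ) (H : Subgroup X) : Subgroup X :=
  (pPrimeCore q H).map H.subtype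

omit [Finite X] in
theorem pPrimeCoreOf_le (H : Subgroup X) : pPrimeCoreOf q H ≤ H := map_subtype_le _

theorem coprime_card_pPrimeCoreOf (q : ℕ) (H : Subgroup X) :
    (Nat.card (pPrimeCoreOf q H)).Coprime q := Core.coprime_card_map_pPrimeCore _

omit [Finite X] in
theorem normalizer_le_normalizer_pPrimeCoreOf (H : Subgroup X) :
    normalizer (H : Set X) ≤ normalizer (pPrimeCoreOf q H : Set X) :=
  Core.normalizer_le_normalizer_map_of_characteristic H _

omit [Finite X] in
theorem le_normalizer_pPrimeCoreOf (H : Subgroup X) :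
    H ≤ normalizer (pPrimeCoreOf q H : Set X) :=
  le_normalizer.trans (normalizer_le_normalizer_pPrimeCoreOf H)

omit [Finite X] in
theorem le_pPrimeCoreOf {H K : Subgroup X} (hK : K ≤ H) (hn : H ≤ normalizer (K : Set X))
    (hp : (Nat.card K).Coprime q) : K ≤ pPrimeCoreOf q H :=
  Core.le_map_pPrimeCore_subtype hK hn hp

omit [Finite X] in
theorem pPrimeCoreOf_top : pPrimeCoreOf q (⊤ : Subgroup X) = pPrimeCore q X :=
  Core.map_pPrimeCore_equiv topEquiv

theorem pPrimeCoreOf_le_of_le_normalizer {H K : Subgroup X} (h : K ≤ H)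
    (hn : H ≤ normalizer (K : Set X)) : pPrimeCoreOf q K ≤ pPrimeCoreOf q H :=
  le_pPrimeCoreOf ((pPrimeCoreOf_le K).trans h)
    (hn.trans (normalizer_le_normalizer_pPrimeCoreOf K)) (coprime_card_pPrimeCoreOf q K)

theorem pPrimeCoreOf_inf_le {H K : Subgroup X} (h : K ≤ H) :
    pPrimeCoreOf q H ⊓ K ≤ pPrimeCoreOf q K :=
  le_pPrimeCoreOf inf_le_right
    (Core.le_normalizer_inf (h.trans (le_normalizer_pPrimeCoreOf H)) le_normalizer)
    ((coprime_card_pPrimeCoreOf q H).coprime_dvd_left (card_dvd_of_le inf_le_left))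

theorem coprime_card_sup {A N : Subgroup X} {n : ℕ} (h : A ≤ normalizer (N : Set X))
    (hA : (Nat.card A).Coprime n) (hN : (Nat.card N).Coprime n) :
    (Nat.card ↥(A ⊔ N)).Coprime n :=
  (Nat.Coprime.mul_left hA hN).coprime_dvd_left (Core.card_sup_dvd_of_le_normalizer h)

/-- A subgroup `Y` with `[K, Y] ≤ O`, `O` normalized by `K`: then `K` normalizes `Y ⊔ O`. -/
theorem le_normalizer_sup_of_commutator_le {K Y O : Subgroup X} (hO : K ≤ normalizer (O : Set X))
    (h : ⁅Y, K⁆ ≤ O) : K ≤ normalizer ((Y ⊔ O : Subgroup X) : Set X) := by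
  intro k hk
  refine Core.mem_normalizer_of_map_conj_le ?_
  rw [Subgroup.map_sup]
  refine sup_le ?_ ((map_conj_eq_of_mem_normalizer (hO hk)).le.trans le_sup_right)
  rintro _ ⟨y, hy, rfl⟩
  have h1 := mul_mem (mem_sup_left hy : y ∈ Y ⊔ O)
    (mem_sup_right (h (commutator_mem_commutator (inv_mem hy) hk)))
  simpa [commutatorElement_def, mul_assoc] using h1

theorem isCharIn_of_isPSolvable [Fact q.Prime] {K : Subgroup X} (hK : IsPSolvable q K)
    (h0 : pPrimeCoreOf q K = ⊥) : Core.IsCharIn q K :=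
  Core.isCharIn_iff.2 (centralizer_pCore_le hK
    ((map_eq_bot_iff_of_injective _ K.subtype_injective).1 h0))

theorem le_centralizer_of_isCharIn [Fact q.Prime] {K Z Y : Subgroup X} (hK : Core.IsCharIn q K)
    (hZ : IsPGroup q Z) (hY : (Nat.card Y).Coprime q) (hZK : Z ≤ normalizer (K : Set X))
    (hYK : Y ≤ normalizer (K : Set X)) (hZY : Z ≤ centralizer (Y : Set X))
    (hn : K ⊓ centralizer (Z : Set X) ≤ normalizer (Y : Set X)) : Y ≤ centralizer (K : Set X) := by
  have hV := Core.isPGroup_pCoreOf (p := q) K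
  have hYV := hYK.trans (Core.normalizer_le_normalizer_pCoreOf (p := q) K)
  have h1 : Y ≤ centralizer (pCoreOf q K : Set X) := by
    refine thompson_AxB hZ hY hZY hV (hZK.trans (Core.normalizer_le_normalizer_pCoreOf K)) hYV ?_
    refine Core.le_centralizer_of_coprime_of_le_normalizer
      ((inf_le_inf_right _ (Core.pCoreOf_le K)).trans hn)
      (Core.le_normalizer_inf hYV ((le_centralizer_iff.1 hZY).trans le_normalizer)) ?_
    exact Core.coprime_card_of_isPGroup (hV.to_le inf_le_left) hY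
  refine le_centralizer_of_commutator_le (N := pCoreOf q K) ?_
    h1 (Core.coprime_card_of_isPGroup hV hY).symm
  refine le_trans (le_inf (commutator_le_of_le_normalizer hYK) ?_) hK
  rw [commutator_comm]
  refine (commutator_mono h1 le_rfl).trans (commutator_le_of_le_normalizer ?_)
  exact Core.le_normalizer_centralizer (Core.le_normalizer_pCoreOf K)

/-- Goldschmidt's lemma, for a normal `q`-solvable subgroup `K`. -/
theorem commutator_le_pPrimeCoreOf [Fact q.Prime] {K Z Y : Subgroup X} [K.Normal]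
    (hK : IsPSolvable q K) (hZ : IsPGroup q Z) (hY : (Nat.card Y).Coprime q)
    (hZY : Z ≤ centralizer (Y : Set X))
    (hn : K ⊓ centralizer (Z : Set X) ≤ normalizer (Y : Set X)) : ⁅Y, K⁆ ≤ pPrimeCoreOf q K := by
  set O := pPrimeCoreOf q K with hO
  set f := QuotientGroup.mk' O with hf
  have hs := QuotientGroup.mk'_surjective O
  have hOc : (Nat.card O).Coprime q := coprime_card_pPrimeCoreOf q K
  have hKn : (K.map f).Normal := Normal.map inferInstance f hs
  have h0 : pPrimeCoreOf q (K.map f) = ⊥ := by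
    have h1 : (pPrimeCoreOf q (K.map f)).comap f ≤ O := by
      refine le_pPrimeCoreOf ?_ le_normalizer_of_normal ?_
      · refine (comap_mono (pPrimeCoreOf_le _)).trans ?_
        rw [comap_map_eq, QuotientGroup.ker_mk', sup_eq_left.2 (pPrimeCoreOf_le K)]
      · rw [Core.card_comap_mk]
        exact Nat.Coprime.mul_left hOc (coprime_card_pPrimeCoreOf q _)
    rw [← map_comap_eq_self_of_surjective hs (pPrimeCoreOf q (K.map f)), Core.map_mk_eq_bot_iff]
    exact h1
  have hKs : IsPSolvable q (K.map f) :=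
    isPSolvable_of_surjective hK (f.subgroupMap K) (f.subgroupMap_surjective K)
  have h2 : Y.map f ≤ centralizer ((K.map f : Subgroup _) : Set _) := by
    refine le_centralizer_of_isCharIn (isCharIn_of_isPSolvable hKs h0) (hZ.map f)
      (hY.coprime_dvd_left (card_map_dvd Y f)) le_normalizer_of_normal le_normalizer_of_normal
      ((map_mono hZY).trans (map_centralizer_le_centralizer_image _ _)) ?_
    rw [← map_inf_centralizer_eq f le_normalizer_of_normal ?_
      (Or.inl (isSolvable_of_isPGroup hZ))]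
    · exact (map_mono hn).trans (le_normalizer_map f)
    · rw [QuotientGroup.ker_mk']
      exact Core.coprime_card_of_isPGroup hZ (hOc.coprime_dvd_left (card_dvd_of_le inf_le_right))
  rw [← Core.map_mk_eq_bot_iff, map_commutator, commutator_eq_bot_iff_le_centralizer]
  exact h2

theorem goldschmidt_top [Fact q.Prime] {Z Y : Subgroup X} (hX : IsPSolvable q X)
    (hZ : IsPGroup q Z) (hY : (Nat.card Y).Coprime q) (hZY : Z ≤ centralizer (Y : Set X))
    (hn : centralizer (Z : Set X) ≤ normalizer (Y : Set X)) : Y ≤ pPrimeCore q X := by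
  have h := commutator_le_pPrimeCoreOf (K := ⊤) (isPSolvable_subgroup hX ⊤) hZ hY hZY
    (inf_le_right.trans hn)
  rw [← pPrimeCoreOf_top]
  exact le_sup_left.trans (le_pPrimeCoreOf le_top
    (le_normalizer_sup_of_commutator_le (le_normalizer_pPrimeCoreOf ⊤) h)
    (coprime_card_sup le_normalizer_of_normal hY (coprime_card_pPrimeCoreOf q _)))

/-- **Goldschmidt's lemma**: `H` is `q`-solvable, `Z ≤ H` a `q`-subgroup, `Y ≤ C_H(Z)` a
`q'`-subgroup normalized by `C_H(Z)`; then `Y ≤ O_{q'}(H)`. -/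
theorem goldschmidt [Fact q.Prime] {H Z Y : Subgroup X} (hH : IsPSolvable q H) (hZH : Z ≤ H)
    (hYH : Y ≤ H) (hZ : IsPGroup q Z) (hY : (Nat.card Y).Coprime q)
    (hZY : Z ≤ centralizer (Y : Set X))
    (hn : H ⊓ centralizer (Z : Set X) ≤ normalizer (Y : Set X)) : Y ≤ pPrimeCoreOf q H := by
  have h := goldschmidt_top (X := H) (Z := Z.subgroupOf H) (Y := Y.subgroupOf H) hH
    hZ.comap_subtype (by rwa [Core.card_subgroupOf_of_le hYH])
    (fun z hz y hy => Subtype.ext (hZY hz y hy)) (fun c hc => ?_)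
  · rw [← map_subgroupOf_eq_of_le hYH]
    exact map_mono h
  · have hc' : (c : X) ∈ normalizer (Y : Set X) :=
      hn ⟨c.2, fun z hz => congrArg Subtype.val (hc ⟨z, hZH hz⟩ hz)⟩
    rw [mem_normalizer_iff] at hc' ⊢
    exact fun y => hc' y

end Cfsg.Agent.Coprime
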