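import Mathlib
import Cfsg.Agent.Lib.Coprime.FixTools

/-!
# Orbits of a Sylow subgroup on the set of Sylow subgroups
-/

set_option autoImplicit false

namespace Cfsg.Agent.Coprime

open Subgroup MulAction
open scoped commutatorElement Pointwise

section

variable {G : Type*} [Group G] {Ω : Type*} [Finite Ω] [MulAction G Ω]

theorem dvd_ncard_of_forall_orbit {P : Subgroup G} {k : ℕ} {S : Set Ω}
    (hS : ∀ a ∈ P, ∀ w ∈ S, a • w ∈ S) (h : ∀ w ∈ S, k ∣ (orbit P w).ncard) : k ∣ S.ncard := by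
  induction hn : S.ncard using Nat.strong_induction_on generalizing S with
  | _ n ih =>
  rcases S.eq_empty_or_nonempty with rfl | ⟨w, hw⟩
  · rw [← hn, Set.ncard_empty]; exact dvd_zero k
  have h1 : orbit P w ⊆ S := by
    rintro _ ⟨a, rfl⟩
    exact hS a a.2 w hw
  have h2 := Set.ncard_sdiff_add_ncard_of_subset h1
  have h3 : 0 < (orbit P w).ncard := (Set.ncard_pos (s := orbit P w) (Set.toFinite _)).mpr
    ⟨w, mem_orbit_self w⟩
  rw [← hn, ← h2]
  refine dvd_add (ih _ (by omega) (S := S \ orbit P w)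
    (fun a ha v hv => ⟨hS a ha v hv.1, fun h' => hv.2 ?_⟩)
    (fun v hv => h v hv.1) rfl) (h w hw)
  have := mem_orbit_of_mem_orbit (⟨a, ha⟩⁻¹ : P) h'
  rwa [show (⟨a, ha⟩⁻¹ : P) • a • v = v from inv_smul_smul a v] at this

/-- If `P` is central in `C` and acts freely on the `C`-invariant set `S` of size `|P| m`, then
`C` modulo the elements acting on each `P`-orbit embeds in `S_m`. -/
theorem exists_index_dvd_factorial {P C : Subgroup G} [Finite P]
    (hC : C ≤ centralizer (P : Set G)) {S : Set Ω} (hS : ∀ a ∈ C, ∀ w ∈ S, a • w ∈ S)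
    (hPC : P ≤ C) (hfree : ∀ a ∈ P, ∀ w ∈ S, a • w = w → a = 1) {m : ℕ}
    (hm : S.ncard = m * Nat.card P) : ∃ K : Subgroup G, K.relIndex C ∣ m.factorial ∧
      ∀ g ∈ K, ∀ w ∈ S, ∃ a ∈ P, g • w = a • w := by
  classical
  let T : SubMulAction C Ω := ⟨S, fun a w hw => hS a a.2 w hw⟩
  let X := orbitRel.Quotient (P.subgroupOf C) T
  have h1 : Nat.card X = m := by
    have e := Nat.card_congr (selfEquivOrbitsQuotientProd (G := P.subgroupOf C) (X := T)
      fun w => eq_bot_iff.mpr fun a ha =>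
        Subtype.ext (Subtype.ext (hfree _ a.2 w w.2 (congrArg Subtype.val ha))))
    rw [Nat.card_prod, Core.card_subgroupOf_of_le hPC] at e
    exact Nat.eq_of_mul_eq_mul_right Nat.card_pos (e.symm.trans hm)
  letI : MulAction C X :=
    { smul := fun g => Quotient.map' (g • ·) (by
        rintro _ w ⟨a, rfl⟩
        refine ⟨a, Subtype.ext ?_⟩
        change ((a : C) : G) • (g : G) • (w : Ω) = (g : G) • ((a : C) : G) • (w : Ω)
        rw [← mul_smul, ← mul_smul]
        exact congrArg (· • (w : Ω)) (hC g.2 _ a.2))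
      one_smul := fun x => Quotient.inductionOn' x fun w => congrArg Quotient.mk'' (one_smul _ w)
      mul_smul := fun g h x => Quotient.inductionOn' x fun w =>
        congrArg Quotient.mk'' (mul_smul g h w) }
  have := Fintype.ofFinite X
  refine ⟨(toPermHom C X).ker.map C.subtype, ?_, ?_⟩
  · rw [relIndex, subgroupOf, comap_map_eq_self_of_injective C.subtype_injective, index_ker, ← h1,
      Nat.card_eq_fintype_card (α := X), ← Fintype.card_perm, ← Nat.card_eq_fintype_card]
    exact card_subgroup_dvd_card _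
  · rintro _ ⟨g, hg, rfl⟩ w hw
    have h2 : (Quotient.mk'' (g • (⟨w, hw⟩ : T)) : X) = Quotient.mk'' ⟨w, hw⟩ :=
      congrArg (fun σ : Equiv.Perm X => σ (Quotient.mk'' ⟨w, hw⟩)) hg
    obtain ⟨a, ha⟩ := Quotient.exact' h2
    exact ⟨_, a.2, (congrArg Subtype.val ha).symm⟩

end

variable {G : Type*} [Group G] [Finite G] {p : ℕ} [hp : Fact p.Prime]

theorem eq_or_eq_of_relIndex_prime {D K P : Subgroup G} (h : D.relIndex P = p) (h1 : D ≤ K)
    (h2 : K ≤ P) : K = D ∨ K = P := by
  have := relIndex_mul_relIndex D K P h1 h2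
  rw [h] at this
  rcases (Nat.dvd_prime hp.out).mp (Dvd.intro _ this) with e | e
  · exact Or.inl (le_antisymm (relIndex_eq_one.mp e) h1)
  · rw [e] at this
    exact Or.inr (le_antisymm h2 (relIndex_eq_one.mp
      (Nat.eq_of_mul_eq_mul_left hp.out.pos (this.trans (mul_one p).symm))))

theorem le_normalizer_of_relIndex_prime {D P : Subgroup G} (hP : IsPGroup p P) (hD : D ≤ P)
    (h : D.relIndex P = p) : P ≤ normalizer (D : Set G) := by
  have := PGrp.normal_of_index_eq hP h
  exact (normal_subgroupOf_iff_le_normalizer hD).mp this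

theorem ncard_orbit_sylow (P Q : Sylow p G) :
    (orbit (P : Subgroup G) Q).ncard = (Q : Subgroup G).relIndex P := by
  rw [← index_stabilizer, relIndex]
  congr 1
  ext a
  exact ⟨fun h => mem_sylow_of_smul_eq P.isPGroup' a.2 h, fun h => smul_sylow_eq_of_mem h⟩

theorem relIndex_sylow_comm (P Q : Sylow p G) :
    (Q : Subgroup G).relIndex P = (P : Subgroup G).relIndex Q := by
  apply Nat.eq_of_mul_eq_mul_left (Nat.card_pos (α := ↥((P : Subgroup G) ⊓ Q)))
  rw [Core.card_inf_mul_relIndex, inf_comm, Core.card_inf_mul_relIndex, P.card_eq_multiplicity,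
    Q.card_eq_multiplicity]

omit [Finite G] hp in
theorem relIndex_smul_sylow (P Q : Sylow p G) {g : G}
    (hg : g ∈ normalizer ((P : Subgroup G) : Set G)) :
    ((g • Q : Sylow p G) : Subgroup G).relIndex P = (Q : Subgroup G).relIndex P := by
  conv_lhs => rw [← Sylow.smul_eq_iff_mem_normalizer.mpr hg]
  exact relIndex_map_conj _ _ g

theorem relIndex_sylow_eq_one_iff (P Q : Sylow p G) : (Q : Subgroup G).relIndex P = 1 ↔ Q = P := by
  rw [relIndex_eq_one]
  exact ⟨fun h => Sylow.ext (P.is_maximal' Q.isPGroup' h), fun h => h ▸ le_rfl⟩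

/-- An element outside `W` lies in at most one Sylow subgroup meeting `W` in index `p`. -/
theorem sylow_eq_of_relIndex_eq_prime {W Q₁ Q₂ : Sylow p G} {y : G} (hy : y ∉ (W : Subgroup G))
    (h1 : (Q₁ : Subgroup G).relIndex W = p) (h2 : (Q₂ : Subgroup G).relIndex W = p)
    (hy1 : y ∈ (Q₁ : Subgroup G)) (hy2 : y ∈ (Q₂ : Subgroup G)) : Q₁ = Q₂ := by
  have key : ∀ Q : Sylow p G, (Q : Subgroup G).relIndex W = p →
      ((W : Subgroup G) ⊓ Q).relIndex Q = p := fun Q h => by
    rw [inf_relIndex_right, ← relIndex_sylow_comm, h]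
  have key' : ∀ Q : Sylow p G, (Q : Subgroup G).relIndex W = p →
      ((W : Subgroup G) ⊓ Q).relIndex W = p := fun Q h => by rw [inf_relIndex_left, h]
  rcases eq_or_eq_of_relIndex_prime (key' _ h1)
    (le_sup_left : _ ≤ (W : Subgroup G) ⊓ Q₁ ⊔ (W : Subgroup G) ⊓ Q₂)
    (sup_le inf_le_left inf_le_left) with e | e
  · have e1 : (W : Subgroup G) ⊓ Q₂ ≤ Q₁ := (le_sup_right.trans e.le).trans inf_le_right
    rcases eq_or_eq_of_relIndex_prime (key _ h2) (le_inf e1 inf_le_right) inf_le_right with e' | e'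
    · exact absurd (e' ▸ mem_inf.mpr ⟨hy1, hy2⟩ : y ∈ (W : Subgroup G) ⊓ Q₂).1 hy
    · exact Sylow.ext (Q₂.is_maximal' Q₁.isPGroup' (inf_eq_right.mp e'))
  · have h3 : zpowers y ≤ normalizer ((W : Subgroup G) : Set G) := e ▸ Core.le_normalizer_sup
      ((zpowers_le.mpr hy1).trans
        (le_normalizer_of_relIndex_prime Q₁.isPGroup' inf_le_right (key _ h1)))
      ((zpowers_le.mpr hy2).trans
        (le_normalizer_of_relIndex_prime Q₂.isPGroup' inf_le_right (key _ h2)))
    exact absurd (mem_sylow_of_smul_eq Q₁.isPGroup' hy1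
      (Sylow.smul_eq_iff_mem_normalizer.mpr (h3 (mem_zpowers y)))) hy

/-- If an element `x` of prime order `q ≠ p` centralizes `P` and moves the Sylow subgroup `W`, then
there are at least `q [P : P ∩ W]` Sylow subgroups at the same distance from `P`. -/
theorem mul_relIndex_le_ncard (P W : Sylow p G) {q : ℕ} (hq : q.Prime) (hqp : q ≠ p) {x : G}
    (hx : x ^ q = 1) (hc : x ∈ centralizer ((P : Subgroup G) : Set G)) (hW : x • W ≠ W) :
    q * (W : Subgroup G).relIndex P ≤
      {Q : Sylow p G | (Q : Subgroup G).relIndex P = (W : Subgroup G).relIndex P}.ncard := by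
  set S := {Q : Sylow p G | (Q : Subgroup G).relIndex P = (W : Subgroup G).relIndex P ∧ x • Q ≠ Q}
  have h1 : (W : Subgroup G).relIndex P ∣ S.ncard := dvd_ncard_of_forall_orbit (P := P)
    (fun a ha Q hQ => ⟨(relIndex_smul_sylow P Q (le_normalizer ha)).trans hQ.1, fun e => hQ.2 (by
      rwa [← mul_smul, ← hc a ha, mul_smul, smul_left_cancel_iff] at e)⟩)
    fun Q hQ => by rw [ncard_orbit_sylow, hQ.1]
  have h2 := ncard_modEq_of_pow_eq_one hq hx (S := S) fun Q hQ =>
    ⟨(relIndex_smul_sylow P Q (centralizer_le_normalizer _ hc)).trans hQ.1, fun e => hQ.2 (by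
      rwa [smul_left_cancel_iff] at e)⟩
  rw [show S ∩ fixedBy (Sylow p G) x = ∅ from Set.eq_empty_of_forall_notMem fun Q hQ => hQ.1.2 hQ.2,
    Set.ncard_empty, Nat.modEq_zero_iff_dvd] at h2
  obtain ⟨k, hk⟩ := PGrp.exists_relIndex_eq_pow (H := (W : Subgroup G)) P.isPGroup'
  have h3 := Nat.Coprime.mul_dvd_of_dvd_of_dvd
    (hk ▸ ((Nat.coprime_primes hq hp.out).mpr hqp).pow_right k) h2 h1
  exact (Nat.le_of_dvd ((Set.ncard_pos (s := S) (Set.toFinite _)).mpr ⟨W, rfl, hW⟩) h3).trans
    (Set.ncard_le_ncard fun Q hQ => hQ.1)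

/-- For abelian Sylow subgroups, the number of Sylow subgroups containing `b` divides `|G|`. -/
theorem ncard_sylow_mem_dvd (P : Sylow p G)
    (hc : ∀ Q : Sylow p G, IsMulCommutative (Q : Subgroup G)) {b : G} (hb : b ∈ (P : Subgroup G)) :
    {Q : Sylow p G | b ∈ (Q : Subgroup G)}.ncard ∣ Nat.card G := by
  have key : ∀ Q : Sylow p G, b ∈ (Q : Subgroup G) → IsSylowIn p Q (centralizer {b}) :=
    fun Q hQ => (isSylowIn_top Q).mono (fun a ha => mem_centralizer_singleton_iff.mpr
      (mul_comm_of_mem (hc Q) ha hQ)) le_top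
  have h1 : {Q : Sylow p G | b ∈ (Q : Subgroup G)} = orbit (centralizer {b} : Subgroup G) P := by
    ext Q
    constructor
    · intro hQ
      obtain ⟨g, hg, e⟩ := (key P hb).exists_conj (key Q hQ)
      exact ⟨⟨g, hg⟩, Sylow.ext e.symm⟩
    · rintro ⟨⟨g, hg⟩, rfl⟩
      refine ⟨b, hb, ?_⟩
      change g * b * g⁻¹ = b
      rw [mem_centralizer_singleton_iff.mp hg, mul_inv_cancel_right]
  rw [h1, ← index_stabilizer]
  exact (index_dvd_card _).trans (card_subgroup_dvd_card _)

end Cfsg.Agent.Coprime
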