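import Mathlib
import Cfsg.Agent.Lib.Coprime.PiClosed
import Cfsg.Agent.Lib.Cls.NilpHall
import Cfsg.Prelude.Def_HallClasses

/-!
# Wielandt's theorem on nilpotent Hall subgroups and its extension by a `D_τ` direct factor
-/

set_option autoImplicit false

namespace Cfsg.Agent.Coprime

open Subgroup

variable {G : Type*} [Group G] [Finite G]

/-- Every `π`-subgroup lies in a conjugate of `H`. -/
def CoversPi (π : Set ℕ) (H : Subgroup G) : Prop :=
  ∀ K : Subgroup G, IsPiNum π (Nat.card K) → ∃ g : G, K ≤ H.map (MulAut.conj g).toMonoidHom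

omit [Finite G] in
theorem map_conj_le_centralizer {P T : Subgroup G} (h : P ≤ centralizer (T : Set G)) (g : G) :
    P.map (MulAut.conj g).toMonoidHom ≤
      centralizer ((T.map (MulAut.conj g).toMonoidHom : Subgroup G) : Set G) :=
  (map_mono h).trans (Transfer.map_centralizer_le' _ _)

theorem isSylowIn_of_isPiHall {τ : Set ℕ} {T R : Subgroup G} {q : ℕ} [Fact q.Prime]
    (hT : IsPiHall τ T) (hq : q ∈ τ) (hR : IsSylowIn q R T) : IsSylowIn q R ⊤ :=
  hR.trans le_top (by rw [relIndex_top_right]; exact hT.2 q Fact.out hq)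

theorem coversPi_sup {p : ℕ} [hp : Fact p.Prime] {τ : Set ℕ} {P T : Subgroup G}
    (hP : IsSylowIn p P ⊤) (hT : IsPiHall τ T) (hPT : P ≤ centralizer (T : Set G))
    (hD : CoversPi τ T) : CoversPi (insert p τ) (P ⊔ T) := by
  intro K hK
  have hc : ∀ {A B : Subgroup G} (g : G), B ≤ centralizer (A.map (MulAut.conj g).toMonoidHom) →
      ∀ {U : Subgroup G}, U ≤ A.map (MulAut.conj g).toMonoidHom → B ≤ normalizer (U : Set G) :=
    fun g h U hU => (h.trans (centralizer_le hU)).trans (centralizer_le_normalizer _)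
  have h1 : HasNormalPComplement p K := by
    obtain ⟨S⟩ : Nonempty (Sylow p K) := inferInstance
    refine Transfer.frobenius_of_prime_pow_centralizes S fun X hX _ q hq hqp x hx ⟨k, hk⟩ => ?_
    have := Fact.mk hq
    rcases Nat.eq_zero_or_pos k with rfl | hk0
    · rw [pow_zero, orderOf_eq_one_iff] at hk
      rw [hk]; exact one_mem _
    have hqτ : q ∈ τ :=
      (hK q hq ((dvd_pow_self q hk0.ne').trans (hk ▸ orderOf_dvd_natCard x))).resolve_left hqp
    obtain ⟨g, -, hg⟩ := hP.exists_le_conj (U := X.map K.subtype) le_top ((S.2.to_le hX).map _)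
    obtain ⟨R, hR⟩ := exists_isSylowIn q (T.map (MulAut.conj g).toMonoidHom)
    have h2 := map_conj_le_centralizer (le_centralizer_iff.mp hPT) g
    obtain ⟨y, hy, h3⟩ := ((isSylowIn_of_isPiHall (isPiHall_map_conj hT g) hqτ hR).mono
      (hR.1.trans (hc g h2 hg)) le_top).exists_le_conj (U := zpowers (x : G))
      (zpowers_le.mpr (le_normalizer_map K.subtype ⟨x, hx, rfl⟩))
      (IsPGroup.of_card (by rw [Nat.card_zpowers, orderOf_coe, hk]))
    have h4 := map_conj_le_centralizer ((hR.1.trans h2).trans (centralizer_le hg)) y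
    rw [map_conj_eq_of_mem_normalizer hy] at h4
    exact fun a ha => Subtype.ext (h4 (h3 (mem_zpowers _)) a ⟨a, ha, rfl⟩)
  obtain ⟨S⟩ : Nonempty (Sylow p K) := inferInstance
  have h2 : (pResidual p K).map K.subtype ⊔ (S : Subgroup K).map K.subtype = K := by
    rw [← Subgroup.map_sup, Transfer.pResidual_sup_sylow, ← MonoidHom.range_eq_map, range_subtype]
  obtain ⟨g, hg⟩ := hD ((pResidual p K).map K.subtype) fun q hq hd => by
    rw [Core.card_map_subtype] at hd
    refine (hK q hq (hd.trans (card_subgroup_dvd_card _))).resolve_left ?_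
    rintro rfl
    exact hq.one_lt.ne' (Nat.eq_one_of_dvd_coprimes
      (Transfer.hasNormalPComplement_iff_coprime_pResidual.mp h1) hd dvd_rfl)
  obtain ⟨y, hy, h3⟩ := ((hP.map_conj_of_mem_normalizer (g := g) (le_normalizer trivial)).mono
    (hc g (map_conj_le_centralizer hPT g) hg) le_top).exists_le_conj
    (U := (S : Subgroup K).map K.subtype)
    ((map_subtype_le _).trans (Core.le_normalizer_map_subtype _ _)) (S.2.map _)
  refine ⟨y * g, ?_⟩
  rw [← h2, ← map_conj_map_conj, Subgroup.map_sup, Subgroup.map_sup, sup_comm]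
  refine sup_le_sup h3 ?_
  rw [← map_conj_eq_of_mem_normalizer hy]
  exact map_mono hg

theorem isPiHall_sup {p : ℕ} [hp : Fact p.Prime] {τ : Set ℕ} {P T : Subgroup G}
    (hP : IsSylowIn p P ⊤) (hT : IsPiHall τ T) (hPT : P ≤ normalizer (T : Set G)) :
    IsPiHall (insert p τ) (P ⊔ T) := by
  refine ⟨isPiNum_card_sup hPT (fun q hq hd => Or.inl
    (Core.isPGroup_iff_forall_prime_dvd.mp hP.2.1 q hq hd)) fun q hq hd => Or.inr (hT.1 q hq hd),
    fun q hq h hd => ?_⟩
  rcases h with rfl | h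
  · exact hP.2.2 (hd.trans (by rw [relIndex_top_right]; exact index_dvd_of_le le_sup_left))
  · exact hT.2 q hq h (hd.trans (index_dvd_of_le le_sup_right))

/-- A nilpotent Hall subgroup `S` centralizing a Hall `τ`-subgroup `T` that contains a conjugate of
every `τ`-subgroup. -/
theorem coversPi_sup_of_isNilpotent (S : Subgroup G) (hS : Group.IsNilpotent S)
    (hS' : (Nat.card S).Coprime S.index) {τ : Set ℕ} {T : Subgroup G} (hT : IsPiHall τ T)
    (hST : S ≤ centralizer (T : Set G)) (hD : CoversPi τ T) :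
    CoversPi ({q | q ∣ Nat.card S} ∪ τ) (S ⊔ T) := by
  induction S using Core.subgroup_induction_lt generalizing τ T with
  | h S ih =>
  by_cases hb : S = ⊥
  · intro K hK
    rw [hb, bot_sup_eq]
    refine hD K fun q hq hd => (hK q hq hd).resolve_left fun h => ?_
    rw [hb, card_bot] at h
    exact hq.one_lt.ne' (Nat.dvd_one.mp h)
  obtain ⟨q, hq, hqS⟩ := Core.exists_prime_dvd_card_of_ne_bot hb
  have := Fact.mk hq
  obtain ⟨Q, L, hQ, hL, e⟩ := Cls.exists_sup_of_nilpotent hS q
  have hQS : Q ≤ S := e ▸ le_sup_left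
  have hLS : L ≤ S := e ▸ le_sup_right
  have hcop := coprime_card_of_isPGroup hL hQ
  have hLQ := Cls.le_centralizer_of_coprime_of_nilpotent hS hLS hQS hcop
  have hcard : Nat.card S = Nat.card L * Nat.card Q := by
    rw [← e, sup_comm, Core.card_sup_of_disjoint (hLQ.trans (centralizer_le_normalizer _))
      (inf_eq_bot_of_coprime' hcop)]
  have hQ' : IsSylowIn q Q ⊤ := by
    refine IsSylowIn.trans ⟨hQS, hQ, ?_⟩ le_top ?_
    · have := Core.card_mul_relIndex_of_le hQS
      rw [hcard, mul_comm] at this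
      rw [Nat.eq_of_mul_eq_mul_right Nat.card_pos this]
      exact hq.coprime_iff_not_dvd.mp hL.symm
    · rw [relIndex_top_right]
      exact fun h => hq.one_lt.ne' (Nat.eq_one_of_dvd_coprimes hS' hqS h)
  have h1 := ih L (lt_of_le_of_ne hLS fun h => hq.coprime_iff_not_dvd.mp hL.symm (h ▸ hqS))
    (Core.isNilpotent_of_le hS hLS) (by
      have := Core.card_mul_relIndex_of_le hLS
      rw [hcard] at this
      rw [← relIndex_mul_index hLS, Nat.eq_of_mul_eq_mul_left Nat.card_pos this]
      exact hcop.mul_right (hS'.coprime_dvd_left (card_dvd_of_le hLS)))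
    (isPiHall_sup hQ' hT ((hQS.trans hST).trans (centralizer_le_normalizer _)))
    (le_centralizer_iff.mp (sup_le (le_centralizer_iff.mp hLQ)
      (le_centralizer_iff.mp (hLS.trans hST)))) (coversPi_sup hQ' hT (hQS.trans hST) hD)
  intro K hK
  rw [← e, sup_comm Q, sup_assoc]
  refine h1 K fun r hr hd => (hK r hr hd).elim (fun h => ?_) fun h => Or.inr (Or.inr h)
  rw [Set.mem_ofPred_eq, hcard] at h
  exact ((Nat.Prime.dvd_mul hr).mp h).imp id fun h =>
    Or.inl (Core.isPGroup_iff_forall_prime_dvd.mp hQ r hr h)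

/-- **Wielandt**: a nilpotent Hall subgroup contains a conjugate of every `π`-subgroup. -/
theorem coversPi_of_isNilpotent {π : Set ℕ} {H : Subgroup G} (hH : IsPiHall π H)
    (hn : Group.IsNilpotent H) : CoversPi π H := by
  have := coversPi_sup_of_isNilpotent H hn (isPiHall_coprime hH) (τ := ∅) (T := ⊥)
    ⟨fun q hq hd => by rw [card_bot] at hd; exact hq.one_lt.ne' (Nat.dvd_one.mp hd),
      fun _ _ h => h.elim⟩ (le_centralizer_iff.mp bot_le) fun K hK => ⟨1, by
      rw [card_eq_one.mp (Nat.eq_one_iff_not_exists_prime_dvd.mpr hK)]; exact bot_le⟩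
  rw [sup_bot_eq] at this
  refine fun K hK => this K fun q hq hd => Or.inl ?_
  have h1 := hd.trans (card_subgroup_dvd_card K)
  rw [← H.card_mul_index] at h1
  exact ((Nat.Prime.dvd_mul hq).mp h1).resolve_right (hH.2 q hq (hK q hq hd))

theorem isDPiGroup_of_coversPi {π : Set ℕ} {H : Subgroup G} (hH : IsPiNum π (Nat.card H))
    (h : CoversPi π H) : IsDPiGroup π G := by
  have key : ∀ K, Maximal (IsPiSubgroup π) K → ∃ g : G, K = H.map (MulAut.conj g).toMonoidHom := by
    intro K hK
    obtain ⟨g, hg⟩ := h K hK.1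
    exact ⟨g, le_antisymm hg (hK.2 (by rw [IsPiSubgroup, card_map_conj]; exact hH) hg)⟩
  intro A B hA hB
  obtain ⟨a, rfl⟩ := key A hA
  obtain ⟨b, rfl⟩ := key B hB
  exact ⟨b * a⁻¹, by rw [map_conj_map_conj, inv_mul_cancel_right]⟩

theorem exists_maximal_isPiSubgroup_ge {π : Set ℕ} {K : Subgroup G}
    (hK : IsPiNum π (Nat.card K)) : ∃ M, K ≤ M ∧ Maximal (IsPiSubgroup π) M := by
  obtain ⟨M, h1, h2, h3⟩ := Core.exists_maximal_ge (P := IsPiSubgroup π) hK
  exact ⟨M, h1, h2, fun L hL h => (h3 L hL h).le⟩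

theorem coversPi_of_isDPiGroup {π : Set ℕ} {H : Subgroup G} (hH : IsPiHall π H)
    (h : IsDPiGroup π G) : CoversPi π H := by
  intro K hK
  obtain ⟨M, h1, h2⟩ := exists_maximal_isPiSubgroup_ge hK
  obtain ⟨g, rfl⟩ := h H M ⟨hH.1, fun L hL h => (eq_of_isPiHall_of_le hH h hL).le⟩ h2
  exact ⟨g, h1⟩

theorem isEPiGroup_of_isDPiGroup {π : Set ℕ} (h : IsDPiGroup π G) : IsEPiGroup π G := by
  obtain ⟨M, -, hM⟩ := exists_maximal_isPiSubgroup_ge (π := π) (K := (⊥ : Subgroup G))
    (by rw [card_bot]; exact isPiNum_one π)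
  refine ⟨M, hM.1, fun p hp hπ hd => ?_⟩
  have := Fact.mk hp
  obtain ⟨P⟩ : Nonempty (Sylow p G) := inferInstance
  obtain ⟨L, h1, h2⟩ := exists_maximal_isPiSubgroup_ge (π := π) (K := (P : Subgroup G))
    fun q hq hq' => by rwa [Core.isPGroup_iff_forall_prime_dvd.mp P.isPGroup' q hq hq']
  obtain ⟨g, rfl⟩ := h M L hM h2
  refine P.not_dvd_index (hd.trans ?_)
  rw [← index_map_of_bijective (f := (MulAut.conj g).toMonoidHom) (MulAut.conj g).bijective]
  exact index_dvd_of_le h1

end Cfsg.Agent.Coprime
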